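import Mathlib
import Cfsg.Agent.Classical.AltBasis
import Cfsg.Agent.Classical.QuadBasis

/-!
Involutions of an alternating space in characteristic two: `t = 1 + invN B w M` for a frame `w` of `im (t + 1)`
and a symmetric matrix `M` (the identity or the matrix `J`), and the order of their centralisers.
-/

set_option autoImplicit false
set_option linter.unusedSectionVars false

namespace Cfsg.Agent.CharTwoInvol

open Module Matrix
open Cfsg.Agent.Classical

section maps

variable {F V : Type*} [Field F] [AddCommGroup V] [Module F V] {κ : Type*} [Fintype κ]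

/-- The values of the form against a tuple. -/
def pairMap (B : LinearMap.BilinForm F V) (w : κ → V) : V →ₗ[F] (κ → F) :=
  LinearMap.pi fun i => B.flip (w i)

omit [Fintype κ] in
theorem pairMap_apply (B : LinearMap.BilinForm F V) (w : κ → V) (v : V) (i : κ) :
    pairMap B w v i = B v (w i) := rfl

/-- Combinations of a tuple. -/
def comb (w : κ → V) : (κ → F) →ₗ[F] V where
  toFun c := ∑ i, c i • w i
  map_add' c d := by simp [add_smul, Finset.sum_add_distrib]
  map_smul' a c := by simp [mul_smul, Finset.smul_sum]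

theorem comb_apply (w : κ → V) (c : κ → F) : comb w c = ∑ i, c i • w i := rfl

theorem comb_comb (w : κ → V) (A : Matrix κ κ F) (c : κ → F) :
    comb (fun i => comb w (A i)) c = comb w (c ᵥ* A) := by
  simp only [comb_apply, Finset.smul_sum, smul_smul]
  rw [Finset.sum_comm]
  simp only [Matrix.vecMul, dotProduct, Finset.sum_smul]

theorem pairMap_comb (B : LinearMap.BilinForm F V) (w : κ → V) (A : Matrix κ κ F) (v : V) :
    pairMap B (fun i => comb w (A i)) v = A *ᵥ pairMap B w v := by
  funext i
  simp [pairMap_apply, comb_apply, Matrix.mulVec, dotProduct, map_sum]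

/-- The nilpotent map of a tuple and a matrix. -/
def invN (B : LinearMap.BilinForm F V) (w : κ → V) (M : Matrix κ κ F) : V →ₗ[F] V :=
  (comb w).comp (M.vecMulLinear.comp (pairMap B w))

theorem invN_apply (B : LinearMap.BilinForm F V) (w : κ → V) (M : Matrix κ κ F) (v : V) :
    invN B w M v = comb w (pairMap B w v ᵥ* M) := rfl

theorem invN_comb (B : LinearMap.BilinForm F V) (w : κ → V) (M A : Matrix κ κ F) (v : V) :
    invN B (fun i => comb w (A i)) M v = invN B w (Aᵀ * M * A) v := by
  rw [invN_apply, invN_apply, pairMap_comb, comb_comb]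
  congr 1
  rw [← Matrix.vecMul_vecMul, ← Matrix.vecMul_vecMul, Matrix.vecMul_transpose]

/-- A frame: independent and pairwise orthogonal vectors. -/
structure IsFrame (B : LinearMap.BilinForm F V) (w : κ → V) : Prop where
  indep : LinearIndependent F w
  orth : ∀ i j, B (w i) (w j) = 0

theorem IsFrame.pairMap_comb_zero {B : LinearMap.BilinForm F V} {w : κ → V} (hw : IsFrame B w) (c : κ → F) :
    pairMap B w (comb w c) = 0 := by
  funext j
  simp [pairMap_apply, comb_apply, map_sum, hw.orth]

theorem comb_injective {w : κ → V} (hw : LinearIndependent F w) : Function.Injective (comb (F := F) w) :=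
  (injective_iff_map_eq_zero _).2 fun c hc => funext fun i => Fintype.linearIndependent_iff.1 hw c hc i

theorem comb_mem_span (w : κ → V) (c : κ → F) : comb w c ∈ Submodule.span F (Set.range w) :=
  Submodule.sum_mem _ fun i _ => Submodule.smul_mem _ _ (Submodule.subset_span ⟨i, rfl⟩)

theorem comb_single [DecidableEq κ] (w : κ → V) (i : κ) : comb w (Pi.single i (1 : F)) = w i := by
  simp [comb_apply, Pi.single_apply]

theorem range_comb (w : κ → V) : LinearMap.range (comb (F := F) w) = Submodule.span F (Set.range w) := by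
  classical
  refine le_antisymm ?_ (Submodule.span_le.2 ?_)
  · rintro _ ⟨c, rfl⟩
    exact comb_mem_span w c
  · rintro _ ⟨i, rfl⟩
    exact ⟨_, comb_single w i⟩

theorem pairMap_surjective [FiniteDimensional F V] {B : LinearMap.BilinForm F V} (hB : B.Nondegenerate)
    {w : κ → V} (hw : LinearIndependent F w) : Function.Surjective (pairMap B w) := by
  classical
  rw [← LinearMap.range_eq_top]
  by_contra hne
  obtain ⟨φ, hφ0, hφ⟩ := Submodule.exists_dual_map_eq_bot_of_lt_top (lt_top_iff_ne_top.2 hne) inferInstance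
  refine hφ0 (LinearMap.pi_ext' fun i => LinearMap.ext_ring ?_)
  have hz : comb w (fun i => φ (Pi.single i 1)) = 0 := hB.2 _ fun v => by
    have h1 : φ (pairMap B w v) ∈ (LinearMap.range (pairMap B w)).map φ := ⟨_, ⟨v, rfl⟩, rfl⟩
    rw [hφ, Submodule.mem_bot, pi_eq_sum_univ' (pairMap B w v), map_sum] at h1
    rw [← h1, comb_apply, map_sum]
    exact Finset.sum_congr rfl fun j _ => by
      rw [map_smul, map_smul, smul_eq_mul, smul_eq_mul, pairMap_apply, mul_comm]
  simpa using congrFun (comb_injective hw (hz.trans (map_zero _).symm)) i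

theorem invN_ext [FiniteDimensional F V] {B : LinearMap.BilinForm F V} (hB : B.Nondegenerate)
    {w : κ → V} (hw : LinearIndependent F w) {M M' : Matrix κ κ F}
    (h : ∀ v, invN B w M v = invN B w M' v) : M = M' := by
  classical
  ext i j
  obtain ⟨v, hv⟩ := pairMap_surjective hB hw (Pi.single i 1)
  have := comb_injective hw (h v)
  simp only [LinearMap.comp_apply, Matrix.vecMulLinear_apply, hv] at this
  simpa using congrFun this j

theorem range_invN [FiniteDimensional F V] [DecidableEq κ] {B : LinearMap.BilinForm F V} (hB : B.Nondegenerate)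
    {w : κ → V} (hw : LinearIndependent F w) {M : Matrix κ κ F} (hM : IsUnit M) :
    LinearMap.range (invN B w M) = Submodule.span F (Set.range w) := by
  rw [invN, LinearMap.range_comp, LinearMap.range_eq_top.2, Submodule.map_top, range_comb]
  rw [LinearMap.coe_comp]
  exact (Matrix.vecMul_surjective_iff_isUnit.2 hM).comp (pairMap_surjective hB hw)

theorem finrank_range_invN [FiniteDimensional F V] [DecidableEq κ] {B : LinearMap.BilinForm F V}
    (hB : B.Nondegenerate) {w : κ → V} (hw : LinearIndependent F w) {M : Matrix κ κ F} (hM : IsUnit M) :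
    finrank F (LinearMap.range (invN B w M)) = Fintype.card κ := by
  rw [range_invN hB hw hM, finrank_span_eq_card hw]

end maps

section involutions

variable {F V : Type*} [Field F] [CharP F 2] [AddCommGroup V] [Module F V]
  {κ : Type*} [Fintype κ] {B : LinearMap.BilinForm F V}

theorem add_self' (F : Type*) {V : Type*} [Field F] [CharP F 2] [AddCommGroup V] [Module F V] (v : V) : v + v = 0 := by
  have h : (2 : F) • v = 0 := by rw [CharTwo.two_eq_zero, zero_smul]
  rwa [two_smul] at h

theorem alt_comm (hA : B.IsAlt) (x y : V) : B x y = B y x := by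
  rw [Alt.neg' hA y x, CharTwo.neg_eq]

/-- `t + 1`. -/
def nil (t : V ≃ₗ[F] V) : V →ₗ[F] V := t.toLinearMap + LinearMap.id

omit [CharP F 2] [Fintype κ] in
theorem nil_apply (t : V ≃ₗ[F] V) (v : V) : nil t v = t v + v := rfl

/-- `t` is the involution of the tuple `w` and the matrix `M`. -/
def IsT (B : LinearMap.BilinForm F V) (t : V ≃ₗ[F] V) (w : κ → V) (M : Matrix κ κ F) : Prop :=
  nil t = invN B w M

theorem IsT.apply {t : V ≃ₗ[F] V} {w : κ → V} {M : Matrix κ κ F} (h : IsT B t w M) (v : V) :
    t v = v + invN B w M v := by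
  rw [← h, nil_apply, add_comm (t v), ← add_assoc, add_self' F, zero_add]

/-- The involution of a frame. -/
def mkT (w : κ → V) (M : Matrix κ κ F) (hw : IsFrame B w) : V ≃ₗ[F] V :=
  LinearEquiv.ofInvolutive (LinearMap.id + invN B w M) fun v => by
    have e : invN B w M (invN B w M v) = 0 := by
      rw [invN_apply B w M (invN B w M v), invN_apply B w M v, hw.pairMap_comb_zero, Matrix.zero_vecMul, map_zero]
    simp only [LinearMap.add_apply, LinearMap.id_coe, id_eq, map_add, e, add_zero]
    rw [add_assoc, add_self' F, add_zero]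

theorem mkT_apply (w : κ → V) (M : Matrix κ κ F) (hw : IsFrame B w) (v : V) :
    mkT w M hw v = v + invN B w M v := rfl

theorem isT_mkT (w : κ → V) (M : Matrix κ κ F) (hw : IsFrame B w) : IsT B (mkT w M hw) w M :=
  LinearMap.ext fun v => by rw [nil_apply, mkT_apply, add_comm v, add_assoc, add_self' F, add_zero]

theorem mkT_mul_self (w : κ → V) (M : Matrix κ κ F) (hw : IsFrame B w) : mkT w M hw * mkT w M hw = 1 :=
  LinearEquiv.ext fun v => by
    rw [LinearEquiv.mul_apply]
    exact (mkT w M hw).symm_apply_apply v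

theorem IsT.eq {t t' : V ≃ₗ[F] V} {w : κ → V} {M : Matrix κ κ F} (h : IsT B t w M) (h' : IsT B t' w M) :
    t = t' := LinearEquiv.ext fun v => by rw [h.apply, h'.apply]

/-- The value of the form on `v` and `invN v'`. -/
theorem B_invN (w : κ → V) (M : Matrix κ κ F) (v u : V) :
    B v (invN B w M u) = (pairMap B w u ᵥ* M) ⬝ᵥ pairMap B w v := by
  simp [invN_apply, comb_apply, map_sum, dotProduct, pairMap_apply]

theorem mkT_isometry (hA : B.IsAlt) (w : κ → V) {M : Matrix κ κ F} (hM : Mᵀ = M) (hw : IsFrame B w) :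
    mkT w M hw ∈ Alt.isoGroup B := by
  intro x y
  rw [mkT_apply, mkT_apply]
  have e1 : B (invN B w M x) (invN B w M y) = 0 := by
    rw [B_invN, show pairMap B w (invN B w M x) = 0 from hw.pairMap_comb_zero _, dotProduct_zero]
  have e2 : B (invN B w M x) y = B x (invN B w M y) := by
    rw [alt_comm hA, B_invN, B_invN, ← Matrix.dotProduct_mulVec, dotProduct_comm,
      ← Matrix.vecMul_transpose, hM]
  simp only [map_add, LinearMap.add_apply, e1, e2, add_zero]
  linear_combination (B x (invN B w M y)) * (CharTwo.two_eq_zero : (2 : F) = 0)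

theorem IsT.form_self (hA : B.IsAlt) {t : V ≃ₗ[F] V} {w : κ → V} {M : Matrix κ κ F} (h : IsT B t w M) (v : V) :
    B v (t v) = (pairMap B w v ᵥ* M) ⬝ᵥ pairMap B w v := by
  rw [h.apply, map_add, hA v, zero_add, B_invN]

omit [CharP F 2] in
theorem IsT.conj {t g : V ≃ₗ[F] V} (hg : g ∈ Alt.isoGroup B) {w : κ → V} {M : Matrix κ κ F} (h : IsT B t w M) :
    IsT B (g * t * g⁻¹) (fun i => g (w i)) M := by
  refine LinearMap.ext fun v => ?_
  have hp : pairMap B w (g⁻¹ v) = pairMap B (fun i => g (w i)) v := funext fun i => by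
    rw [pairMap_apply, pairMap_apply, ← hg (g⁻¹ v) (w i), Alt.apply_inv_self]
  have h' := congrArg g (LinearMap.congr_fun h (g⁻¹ v))
  rw [nil_apply, map_add, Alt.apply_inv_self] at h'
  rw [nil_apply, LinearEquiv.mul_apply, LinearEquiv.mul_apply, h', invN_apply, invN_apply, hp, comb_apply,
    comb_apply, map_sum]
  simp

omit [CharP F 2] in
theorem IsT.finrank_nil [FiniteDimensional F V] [DecidableEq κ] (hB : B.Nondegenerate) {t : V ≃ₗ[F] V}
    {w : κ → V} {M : Matrix κ κ F} (h : IsT B t w M) (hw : LinearIndependent F w) (hM : IsUnit M) :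
    finrank F (LinearMap.range (nil t)) = Fintype.card κ := by
  rw [h, finrank_range_invN hB hw hM]

/-- `g` commutes with the involution iff it acts on the frame by an isometry of `M`. -/
theorem comm_iff [FiniteDimensional F V] [DecidableEq κ] (hB : B.Nondegenerate) {t g : V ≃ₗ[F] V}
    (hg : g ∈ Alt.isoGroup B) {w : κ → V} {M : Matrix κ κ F} (hw : IsFrame B w) (hM : IsUnit M)
    (h : IsT B t w M) :
    g * t = t * g ↔ ∃ A : Matrix κ κ F, Aᵀ * M * A = M ∧ ∀ i, g (w i) = comb w (A i) := by
  have hc : g * t = t * g ↔ g * t * g⁻¹ = t := mul_inv_eq_iff_eq_mul.symm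
  rw [hc]
  constructor
  · intro hgt
    have h' := h.conj hg
    rw [hgt] at h'
    have hli : LinearIndependent F fun i => g (w i) :=
      hw.indep.map' g.toLinearMap (LinearMap.ker_eq_bot.2 g.injective)
    have e := range_invN hB hw.indep hM
    rw [← show nil t = invN B w M from h, show nil t = invN B (fun i => g (w i)) M from h',
      range_invN hB hli hM, ← range_comb w] at e
    have hmem : ∀ i, ∃ c, comb w c = g (w i) := fun i => by
      have : g (w i) ∈ LinearMap.range (comb (F := F) w) := e ▸ Submodule.subset_span ⟨i, rfl⟩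
      exact this
    choose A hA using hmem
    refine ⟨Matrix.of A, ?_, fun i => (hA i).symm⟩
    refine invN_ext hB hw.indep fun v => ?_
    rw [← invN_comb, show (fun i => comb w (Matrix.of A i)) = fun i => g (w i) from funext hA,
      ← show nil t = invN B w M from h, ← show nil t = invN B (fun i => g (w i)) M from h']
  · rintro ⟨A, hA, hgw⟩
    have h' := h.conj hg
    rw [show (fun i => g (w i)) = fun i => comb w (A i) from funext hgw] at h'
    refine IsT.eq (w := w) (M := M) ?_ h
    exact LinearMap.ext fun v => by rw [h', invN_comb, hA]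

end involutions

section decomposition

variable {F V : Type*} [Field F] [CharP F 2] [AddCommGroup V] [Module F V] [FiniteDimensional F V]
  {B : LinearMap.BilinForm F V}

theorem J_eq_swap {k : ℕ} (i j : Fin k ⊕ Fin k) :
    Matrix.J (Fin k) F i j = if j = i.swap then 1 else 0 := by
  rcases i with i | i <;> rcases j with j | j <;> simp [Matrix.J, Matrix.one_apply, eq_comm, CharTwo.neg_eq]

theorem J_mul_self (k : ℕ) : Matrix.J (Fin k) F * Matrix.J (Fin k) F = 1 := by
  rw [Matrix.J_squared]
  ext i j
  simp [Matrix.neg_apply, CharTwo.neg_eq]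

theorem J_transpose' (k : ℕ) : (Matrix.J (Fin k) F)ᵀ = Matrix.J (Fin k) F := by
  rw [Matrix.J_transpose]
  ext i j
  simp [Matrix.neg_apply, CharTwo.neg_eq]

theorem isUnit_J (k : ℕ) : IsUnit (Matrix.J (Fin k) F) :=
  ⟨⟨_, _, J_mul_self k, J_mul_self k⟩, rfl⟩

variable {t : V ≃ₗ[F] V}

theorem nil_facts (ht : t ∈ Alt.isoGroup B) (ht2 : t * t = 1) :
    (∀ x, nil t (nil t x) = 0) ∧ ∀ x y, B (nil t x) y = B x (nil t y) := by
  have htt : ∀ x, t (t x) = x := fun x => by rw [← LinearEquiv.mul_apply, ht2]; rfl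
  refine ⟨fun x => ?_, fun x y => ?_⟩
  · rw [nil_apply, nil_apply, map_add, htt, add_comm x (t x)]; exact add_self' F _
  · rw [nil_apply, nil_apply, map_add, LinearMap.add_apply, map_add, add_left_inj]
    rw [← ht (t x) y, htt]

/-- A basis `b` of a complement of the kernel with Gram matrix `M` gives the normal form. -/
theorem isT_of_gram (ht : t ∈ Alt.isoGroup B) (ht2 : t * t = 1)
    {U : Submodule F V} (hU : IsCompl U (LinearMap.ker (nil t))) {κ : Type*} [Fintype κ] [DecidableEq κ]
    (b : Basis κ F U) {M : Matrix κ κ F} (hb : ∀ i j, B (b i : V) (nil t (b j : V)) = M i j) (hM : M * M = 1) :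
    IsFrame B (fun i => nil t (b i : V)) ∧ IsT B t (fun i => nil t (b i : V)) M ∧
      Fintype.card κ = finrank F (LinearMap.range (nil t)) := by
  obtain ⟨hN, hsa⟩ := nil_facts ht ht2
  have hli : LinearIndependent F fun i => nil t (b i : V) := by
    refine b.linearIndependent.map' ((nil t).comp U.subtype) (LinearMap.ker_eq_bot'.2 fun u hu => ?_)
    exact Subtype.ext (Submodule.disjoint_def.1 hU.disjoint _ u.2 (LinearMap.mem_ker.2 hu))
  refine ⟨⟨hli, fun i j => by rw [hsa, hN, map_zero]⟩, LinearMap.ext fun v => ?_, ?_⟩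
  · obtain ⟨u, hu, x, hx, rfl⟩ := Submodule.mem_sup.1 (hU.sup_eq_top.symm ▸ Submodule.mem_top (x := v))
    obtain ⟨c, hc⟩ : ∃ c : κ → F, u = ∑ i, c i • (b i : V) := ⟨b.repr ⟨u, hu⟩, by
      have := congrArg U.subtype (b.sum_repr ⟨u, hu⟩)
      rw [map_sum] at this
      simpa using this.symm⟩
    have hNv : nil t (u + x) = comb (fun i => nil t (b i : V)) c := by
      rw [map_add, LinearMap.mem_ker.1 hx, add_zero, hc, map_sum, comb_apply]
      simp
    have hp : pairMap B (fun i => nil t (b i : V)) (u + x) = c ᵥ* M := funext fun i => by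
      rw [pairMap_apply, ← hsa, hNv, comb_apply, map_sum, LinearMap.sum_apply]
      simp only [map_smul, LinearMap.smul_apply, smul_eq_mul, Matrix.vecMul, dotProduct]
      refine Finset.sum_congr rfl fun j _ => ?_
      rw [hsa, hb]
    rw [hNv, invN_apply, hp, Matrix.vecMul_vecMul, hM, Matrix.vecMul_one]
  · rw [← finrank_eq_card_basis b]
    have h1 := Submodule.finrank_add_eq_of_isCompl hU
    have h2 := LinearMap.finrank_range_add_finrank_ker (nil t)
    omega

theorem restrict_facts (hA : B.IsAlt) (hB : B.Nondegenerate) (ht : t ∈ Alt.isoGroup B) (ht2 : t * t = 1)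
    {U : Submodule F V} (hU : IsCompl U (LinearMap.ker (nil t))) :
    LinearMap.BilinForm.IsSymm ((B.compl₂ (nil t)).compl₁₂ U.subtype U.subtype) ∧
      LinearMap.BilinForm.Nondegenerate ((B.compl₂ (nil t)).compl₁₂ U.subtype U.subtype) := by
  obtain ⟨hN, hsa⟩ := nil_facts ht ht2
  have hsymm : LinearMap.BilinForm.IsSymm ((B.compl₂ (nil t)).compl₁₂ U.subtype U.subtype) := ⟨fun x y => by
    simp only [LinearMap.compl₁₂_apply, LinearMap.compl₂_apply, Submodule.subtype_apply]
    rw [alt_comm hA, hsa]⟩
  have hsep : ∀ u : U, (∀ y : U, B (u : V) (nil t (y : V)) = 0) → u = 0 := fun u hu => by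
    have h0 : nil t (u : V) = 0 := hB.1 _ fun v => by
      obtain ⟨a, ha, x, hx, rfl⟩ := Submodule.mem_sup.1 (hU.sup_eq_top.symm ▸ Submodule.mem_top (x := v))
      rw [hsa, map_add, LinearMap.mem_ker.1 hx, add_zero]
      exact hu ⟨a, ha⟩
    exact Subtype.ext (Submodule.disjoint_def.1 hU.disjoint _ u.2 (LinearMap.mem_ker.2 h0))
  refine ⟨hsymm, fun u hu => hsep u fun y => by simpa using hu y, fun u hu => hsep u fun y => ?_⟩
  have := hu y
  simp only [LinearMap.compl₁₂_apply, LinearMap.compl₂_apply, Submodule.subtype_apply] at this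
  rw [alt_comm hA, hsa] at this
  exact this

/-- Normal form, non-alternating case. -/
theorem exists_isT_one [Finite F] (hA : B.IsAlt) (hB : B.Nondegenerate) (ht : t ∈ Alt.isoGroup B)
    (ht2 : t * t = 1) (hna : ∃ v, B v (t v) ≠ 0) :
    ∃ w : Fin (finrank F (LinearMap.range (nil t))) → V, IsFrame B w ∧ IsT B t w 1 ∧
      ∀ i, ∃ v, w i = nil t v ∧ B v (nil t v) = 1 := by
  obtain ⟨U', hU'⟩ := Submodule.exists_isCompl (LinearMap.ker (nil t))
  have hU := hU'.symm
  obtain ⟨hN, hsa⟩ := nil_facts ht ht2
  obtain ⟨hS, hnd⟩ := restrict_facts hA hB ht ht2 hU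
  obtain ⟨v, hv⟩ := hna
  have hex : ∃ u : U', ((B.compl₂ (nil t)).compl₁₂ U'.subtype U'.subtype) u u ≠ 0 := by
    obtain ⟨a, ha, x, hx, rfl⟩ := Submodule.mem_sup.1 (hU.sup_eq_top.symm ▸ Submodule.mem_top (x := v))
    refine ⟨⟨a, ha⟩, ?_⟩
    have e : B (a + x) (t (a + x)) = B a (nil t a) := by
      have : B (a + x) (t (a + x)) = B (a + x) (nil t (a + x)) := by
        rw [nil_apply, map_add (B (a + x)), hA, add_zero]
      rw [this, map_add (nil t), LinearMap.mem_ker.1 hx, add_zero, map_add, LinearMap.add_apply, ← hsa x,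
        LinearMap.mem_ker.1 hx, map_zero, LinearMap.zero_apply, add_zero]
    rw [e] at hv
    simpa using hv
  have hd : finrank F U' = finrank F (LinearMap.range (nil t)) := by
    have h1 := Submodule.finrank_add_eq_of_isCompl hU
    have h2 := LinearMap.finrank_range_add_finrank_ker (nil t)
    omega
  obtain ⟨b, hb⟩ := Quad.exists_orthonormal_char_two _ _ hd hS hnd hex
  obtain ⟨h1, h2, -⟩ := isT_of_gram ht ht2 hU b (M := 1) (fun i j => by
    have := hb i j
    simpa [Matrix.one_apply] using this) (one_mul 1)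
  exact ⟨_, h1, h2, fun i => ⟨b i, rfl, by have := hb i i; simpa using this⟩⟩

/-- Normal form, alternating case. -/
theorem exists_isT_J (hA : B.IsAlt) (hB : B.Nondegenerate) (ht : t ∈ Alt.isoGroup B)
    (ht2 : t * t = 1) (halt : ∀ v, B v (t v) = 0) :
    ∃ (k : ℕ) (w : Fin k ⊕ Fin k → V), 2 * k = finrank F (LinearMap.range (nil t)) ∧ IsFrame B w ∧
      IsT B t w (Matrix.J (Fin k) F) ∧ ∀ i, ∃ v, w i = nil t v := by
  obtain ⟨U', hU'⟩ := Submodule.exists_isCompl (LinearMap.ker (nil t))
  have hU := hU'.symm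
  obtain ⟨hS, hnd⟩ := restrict_facts hA hB ht ht2 hU
  have halt' : ((B.compl₂ (nil t)).compl₁₂ U'.subtype U'.subtype).IsAlt := fun u => by
    show B (u : V) (nil t (u : V)) = 0
    rw [nil_apply, map_add, hA, halt, add_zero]
  obtain ⟨k, e, f, hb, hd⟩ := Alt.exists_sympBasis halt' ⊤ (Alt.ndon_top hnd)
  rw [finrank_top] at hd
  let b : Basis (Fin k ⊕ Fin k) F U' := Basis.mk (hb.linearIndependent halt') hb.span
  obtain ⟨h1, h2, h3⟩ := isT_of_gram ht ht2 hU b (M := Matrix.J (Fin k) F) (fun i j => by
    show ((B.compl₂ (nil t)).compl₁₂ U'.subtype U'.subtype) (b i) (b j) = _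
    simp only [b, Basis.coe_mk]
    rw [J_eq_swap]
    rcases i with i | i <;> rcases j with j | j <;> simp only [Sum.elim_inl, Sum.elim_inr, Sum.swap_inl, Sum.swap_inr]
    · rw [hb.ee]; simp
    · rw [hb.ef]; simp [eq_comm]
    · rw [← hS.eq, hb.ef]; simp [eq_comm]
    · rw [hb.ff]; simp) (J_mul_self k)
  refine ⟨k, _, ?_, h1, h2, fun i => ⟨_, rfl⟩⟩
  rw [← h3]
  simp [two_mul]

end decomposition

end Cfsg.Agent.CharTwoInvol
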