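import Mathlib
import Cfsg.Agent.CharTwoInvol.Frame
import Cfsg.Agent.Classical.SympGroup

/-!
Centraliser order of a frame involution as a quotient, counting classes of involutions, and the orders of the
isometry groups of the symmetric matrices `1` and `J` in characteristic two.
-/

set_option autoImplicit false
set_option linter.unusedSectionVars false

namespace Cfsg.Agent.CharTwoInvol

open Module Matrix
open Cfsg.Agent.Classical

section group

/-- Fibres of a map that are cosets of a subgroup. -/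
theorem card_fibre {G X : Type*} [Group G] (K : Subgroup G) (P : G → Prop) (f : G → X) (S : Set X)
    (hS : ∀ x, x ∈ S ↔ ∃ g, P g ∧ f g = x) (hK : ∀ g h, P g → (P h ∧ f g = f h ↔ g⁻¹ * h ∈ K)) :
    Nat.card {g // P g} = Nat.card S * Nat.card K := by
  have h := fun x : S => (hS x).1 x.2
  choose sec h1 h2 using h
  rw [← Nat.card_prod]
  refine (Nat.card_eq_of_bijective
    (fun p : S × K => (⟨sec p.1 * p.2, ((hK _ _ (h1 p.1)).2 (by rw [inv_mul_cancel_left]; exact p.2.2)).1⟩ :
      {g // P g})) ⟨?_, ?_⟩).symm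
  · rintro ⟨x, k⟩ ⟨x', k'⟩ e
    have e' : sec x * k = sec x' * k' := congrArg Subtype.val e
    have hx : f (sec x * k) = x := by
      rw [← ((hK _ (sec x * k) (h1 x)).2 (by rw [inv_mul_cancel_left]; exact k.2)).2, h2]
    have hx' : f (sec x' * k') = x' := by
      rw [← ((hK _ (sec x' * k') (h1 x')).2 (by rw [inv_mul_cancel_left]; exact k'.2)).2, h2]
    rw [e', hx'] at hx
    obtain rfl : x = x' := Subtype.ext hx.symm
    exact Prod.ext rfl (Subtype.ext (mul_left_cancel e'))
  · rintro ⟨g, hg⟩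
    let x : S := ⟨f g, (hS _).2 ⟨g, hg, rfl⟩⟩
    exact ⟨⟨x, ⟨(sec x)⁻¹ * g, (hK _ g (h1 x)).1 ⟨hg, h2 x⟩⟩⟩, Subtype.ext (mul_inv_cancel_left _ _)⟩

/-- Counting classes of involutions by representatives. -/
theorem card_invClasses {G T : Type*} [Group G] (rep : T → G) (h2 : ∀ i, orderOf (rep i) = 2)
    (hall : ∀ g : G, orderOf g = 2 → ∃ i, IsConj (rep i) g) (hinj : ∀ i j, IsConj (rep i) (rep j) → i = j) :
    Nat.card {C : ConjClasses G // ∃ g, ConjClasses.mk g = C ∧ orderOf g = 2} = Nat.card T := by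
  refine (Nat.card_eq_of_bijective
    (fun i => (⟨ConjClasses.mk (rep i), rep i, rfl, h2 i⟩ :
      {C : ConjClasses G // ∃ g, ConjClasses.mk g = C ∧ orderOf g = 2})) ⟨fun i j e => ?_, ?_⟩).symm
  · exact hinj i j (ConjClasses.mk_eq_mk_iff_isConj.1 (congrArg Subtype.val e))
  · rintro ⟨_, g, rfl, hg⟩
    obtain ⟨i, hi⟩ := hall g hg
    exact ⟨i, Subtype.ext (ConjClasses.mk_eq_mk_iff_isConj.2 hi)⟩

/-- Classes of involutions along an isomorphism. -/
theorem card_invClasses_congr {G H : Type*} [Group G] [Group H] (e : G ≃* H) :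
    Nat.card {C : ConjClasses G // ∃ g, ConjClasses.mk g = C ∧ orderOf g = 2} =
      Nat.card {C : ConjClasses H // ∃ g, ConjClasses.mk g = C ∧ orderOf g = 2} := by
  refine Nat.card_eq_of_bijective
    (fun C => (⟨ConjClasses.map e.toMonoidHom C.1, by
      obtain ⟨g, hg, hg2⟩ := C.2
      exact ⟨e g, by rw [← hg]; rfl, by rw [MulEquiv.orderOf_eq, hg2]⟩⟩ :
        {C : ConjClasses H // ∃ g, ConjClasses.mk g = C ∧ orderOf g = 2})) ⟨?_, ?_⟩
  · rintro ⟨_, a, rfl, ha⟩ ⟨_, b, rfl, hb⟩ h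
    have h' : IsConj (e a) (e b) := ConjClasses.mk_eq_mk_iff_isConj.1 (congrArg Subtype.val h)
    have := e.symm.toMonoidHom.map_isConj h'
    exact Subtype.ext (ConjClasses.mk_eq_mk_iff_isConj.2 (by simpa using this))
  · rintro ⟨_, b, rfl, hb⟩
    exact ⟨⟨ConjClasses.mk (e.symm b), e.symm b, rfl, by rw [MulEquiv.orderOf_eq, hb]⟩,
      Subtype.ext (congrArg ConjClasses.mk (e.apply_symm_apply b))⟩

end group

section centralizer

variable {F V : Type*} [Field F] [CharP F 2] [AddCommGroup V] [Module F V] [FiniteDimensional F V]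
  {B : LinearMap.BilinForm F V} {κ : Type*} [Fintype κ] [DecidableEq κ]

/-- The isometries of a matrix. -/
abbrev MatIso (M : Matrix κ κ F) : Type _ := {A : Matrix κ κ F // Aᵀ * M * A = M}

theorem comb_one (w : κ → V) : (fun i => comb w ((1 : Matrix κ κ F) i)) = w := by
  funext i
  rw [show (1 : Matrix κ κ F) i = Pi.single i 1 from funext fun j => by simp [Matrix.one_apply, Pi.single_apply, eq_comm],
    comb_single]

/-- The centraliser of a frame involution, times the number of frames, is the group order times the isometries of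
the matrix. -/
theorem card_centralizer_mul {G : Type*} [Group G] (ρ : G →* (V ≃ₗ[F] V)) (hρ : Function.Injective ρ)
    (hiso : ∀ g, ρ g ∈ Alt.isoGroup B) (hB : B.Nondegenerate) {x : G} {w : κ → V} {M : Matrix κ κ F}
    (hw : IsFrame B w) (hM : IsUnit M) (h : IsT B (ρ x) w M) (O : Set (κ → V))
    (hO : ∀ w', w' ∈ O ↔ ∃ g, (fun i => ρ g (w i)) = w')
    (hmem : ∀ A : Matrix κ κ F, Aᵀ * M * A = M → (fun i => comb w (A i)) ∈ O) :
    Nat.card {g : G // g * x = x * g} * Nat.card O = Nat.card G * Nat.card (MatIso M) := by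
  let f : G → (κ → V) := fun g i => ρ g (w i)
  let K : Subgroup G :=
    { carrier := {g | ∀ i, ρ g (w i) = w i}
      one_mem' := fun i => by simp
      mul_mem' := fun {a b} ha hb i => by rw [map_mul, LinearEquiv.mul_apply, hb i, ha i]
      inv_mem' := fun {a} ha i => by
        rw [map_inv]
        conv_lhs => rw [← ha i]
        exact Alt.inv_apply_self _ _ }
  have hfK : ∀ g h : G, f g = f h ↔ g⁻¹ * h ∈ K := fun g h => by
    constructor
    · intro e i
      rw [map_mul, LinearEquiv.mul_apply, show ρ h (w i) = ρ g (w i) from (congrFun e i).symm, map_inv,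
        Alt.inv_apply_self]
    · intro e
      funext i
      show ρ g (w i) = ρ h (w i)
      conv_lhs => rw [← e i]
      rw [← LinearEquiv.mul_apply, ← map_mul, mul_inv_cancel_left]
  have hcomm : ∀ g, g * x = x * g ↔ ∃ A : Matrix κ κ F, Aᵀ * M * A = M ∧ f g = fun i => comb w (A i) := fun g => by
    rw [← hρ.eq_iff, map_mul, map_mul, comm_iff hB (hiso g) hw hM h]
    simp only [funext_iff, f]
  let S : Set (κ → V) := Set.range fun A : MatIso M => fun i => comb w (A.1 i)
  have c1 : Nat.card {g : G // g * x = x * g} = Nat.card S * Nat.card K := by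
    refine card_fibre K (fun g => g * x = x * g) f S (fun s => ⟨?_, ?_⟩) fun g h hg => ?_
    · rintro ⟨A, rfl⟩
      obtain ⟨g, hg⟩ := (hO _).1 (hmem A.1 A.2)
      exact ⟨g, (hcomm g).2 ⟨A.1, A.2, hg⟩, hg⟩
    · rintro ⟨g, hg, rfl⟩
      obtain ⟨A, hA, e⟩ := (hcomm g).1 hg
      exact ⟨⟨A, hA⟩, e.symm⟩
    · refine ⟨fun e => (hfK g h).1 e.2, fun e => ⟨?_, (hfK g h).2 e⟩⟩
      obtain ⟨A, hA, e'⟩ := (hcomm g).1 hg
      exact (hcomm h).2 ⟨A, hA, ((hfK g h).2 e).symm.trans e'⟩
  have c2 : Nat.card G = Nat.card O * Nat.card K := by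
    rw [← card_fibre K (fun _ => True) f O (fun s => by simpa using hO s)
      (fun g h _ => by simpa using hfK g h)]
    exact (Nat.card_congr (Equiv.subtypeUnivEquiv fun _ => trivial)).symm
  have c3 : Nat.card S = Nat.card (MatIso M) :=
    (Nat.card_congr (Equiv.ofInjective _ fun A A' e => Subtype.ext (funext fun i =>
      comb_injective hw.indep (congrFun e i)))).symm
  rw [c1, c2, c3]
  ring

end centralizer

section dotIso

variable {F : Type*} [Field F] [CharP F 2]

theorem card_matIso_J [Fintype F] {q : ℕ} (hF : Fintype.card F = q) (k : ℕ) :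
    Nat.card (MatIso (Matrix.J (Fin k) F)) = q ^ (k ^ 2) * ∏ i ∈ Finset.range k, (q ^ (2 * (i + 1)) - 1) := by
  rw [← card_symplecticGroup hF k]
  exact Nat.card_congr (Equiv.subtypeEquivRight fun A => SymplecticGroup.mem_iff'.symm)

/-- The coordinate sum. -/
def coordSum (F : Type*) [Field F] (n : ℕ) : (Fin n → F) →ₗ[F] F where
  toFun v := ∑ i, v i
  map_add' u v := by simp [Finset.sum_add_distrib]
  map_smul' a v := by simp [Finset.mul_sum]

theorem dot_self {n : ℕ} (v : Fin n → F) : v ⬝ᵥ v = coordSum F n v ^ 2 := by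
  show v ⬝ᵥ v = (∑ i, v i) ^ 2
  rw [CharTwo.sum_sq]
  simp [dotProduct, sq]

theorem dot_one {n : ℕ} (v : Fin n → F) : (fun _ => (1 : F)) ⬝ᵥ v = coordSum F n v := by
  simp [dotProduct, coordSum]

omit [CharP F 2] in
theorem matIso_one_iff {n : ℕ} (A : Matrix (Fin n) (Fin n) F) :
    Aᵀ * 1 * A = 1 ↔ ∀ u v, (A *ᵥ u) ⬝ᵥ (A *ᵥ v) = u ⬝ᵥ v := by
  rw [Matrix.mul_one]
  have e : ∀ u v, (A *ᵥ u) ⬝ᵥ (A *ᵥ v) = u ⬝ᵥ ((Aᵀ * A) *ᵥ v) := fun u v => by
    rw [← Matrix.mulVec_mulVec, Matrix.dotProduct_mulVec u Aᵀ, Matrix.vecMul_transpose]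
  refine ⟨fun h u v => by rw [e, h, Matrix.one_mulVec], fun h => ?_⟩
  ext i j
  have := h (Pi.single i 1) (Pi.single j 1)
  rw [e] at this
  simpa [Matrix.one_apply, Pi.single_apply, eq_comm] using this

/-- An isometry of the dot product fixes the all-ones vector. -/
theorem matIso_one_fix {n : ℕ} {A : Matrix (Fin n) (Fin n) F} (h : Aᵀ * 1 * A = 1) :
    (∀ v, coordSum F n (A *ᵥ v) = coordSum F n v) ∧ A *ᵥ (fun _ => (1 : F)) = fun _ => 1 := by
  have h1 : ∀ v, coordSum F n (A *ᵥ v) = coordSum F n v := fun v => by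
    have := (matIso_one_iff A).1 h v v
    rw [dot_self, dot_self] at this
    exact CharTwo.sq_injective this
  refine ⟨h1, ?_⟩
  have e : (fun _ => (1 : F)) ᵥ* A = fun _ => 1 := funext fun j => by
    have := h1 (Pi.single j 1)
    rw [← dot_one, ← dot_one, Matrix.dotProduct_mulVec] at this
    simpa using this
  have h' : A * Aᵀ = 1 := mul_eq_one_comm.1 (by rwa [Matrix.mul_one] at h)
  conv_lhs => rw [← e, ← Matrix.mulVec_transpose, Matrix.mulVec_mulVec, h', Matrix.one_mulVec]

theorem card_matIso_one_odd [Fintype F] {q : ℕ} (hF : Fintype.card F = q) (k : ℕ) :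
    Nat.card (MatIso (1 : Matrix (Fin (2 * k + 1)) (Fin (2 * k + 1)) F)) =
      q ^ (k ^ 2) * ∏ i ∈ Finset.range k, (q ^ (2 * (i + 1)) - 1) := by
  classical
  set j : Fin (2 * k + 1) → F := fun _ => 1 with hj
  set W := LinearMap.ker (coordSum F (2 * k + 1)) with hW
  have h2 : (2 : F) = 0 := CharTwo.two_eq_zero
  have hjj : coordSum F (2 * k + 1) j = 1 := by
    show ∑ _i : Fin (2 * k + 1), (1 : F) = 1
    simp [h2]
  let Bd : LinearMap.BilinForm F (Fin (2 * k + 1) → F) := Matrix.toBilin' 1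
  have hBd : ∀ u v, Bd u v = u ⬝ᵥ v := fun u v => by simp [Bd, Matrix.toBilin'_apply']
  let B₀ := Bd.restrict W
  have hB₀ : ∀ u v : W, B₀ u v = (u : Fin (2 * k + 1) → F) ⬝ᵥ v := fun u v => hBd _ _
  have hmem : ∀ v, v + coordSum F (2 * k + 1) v • j ∈ W := fun v => by
    rw [hW, LinearMap.mem_ker, map_add, map_smul, hjj, smul_eq_mul, mul_one]
    exact CharTwo.add_self_eq_zero _
  have hjW : ∀ w : W, j ⬝ᵥ (w : Fin (2 * k + 1) → F) = 0 := fun w => by
    rw [hj, dot_one]; exact LinearMap.mem_ker.1 w.2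
  have halt : B₀.IsAlt := fun u => by
    rw [hB₀, dot_self, LinearMap.mem_ker.1 u.2]; simp
  have hsep : ∀ u : W, (∀ v : W, B₀ u v = 0) → u = 0 := fun u hu => by
    refine Subtype.ext (funext fun i => ?_)
    have := hu ⟨_, hmem (Pi.single i 1)⟩
    rw [hB₀, dotProduct_add, dotProduct_smul, dotProduct_comm (u : Fin (2 * k + 1) → F) j, hjW] at this
    simpa using this
  have hnd : B₀.Nondegenerate := ⟨hsep, fun u hu => hsep u fun v => by rw [alt_comm halt]; exact hu v⟩
  have hd : finrank F W = 2 * k := by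
    have h := LinearMap.finrank_range_add_finrank_ker (coordSum F (2 * k + 1))
    rw [LinearMap.range_eq_top.2 (fun c => ⟨c • j, by rw [map_smul, hjj, smul_eq_mul, mul_one]⟩), finrank_top,
      Module.finrank_self, Module.finrank_fin_fun, ← hW] at h
    omega
  subst hF
  rw [← Alt.card_isoGroup halt hnd k hd]
  -- extension of an isometry of `W`
  let ext : Alt.isoGroup B₀ → (Fin (2 * k + 1) → F) →ₗ[F] (Fin (2 * k + 1) → F) := fun g =>
    W.subtype.comp (g.1.toLinearMap.comp (LinearMap.codRestrict W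
      (LinearMap.id + (coordSum F (2 * k + 1)).smulRight j) hmem)) + (coordSum F (2 * k + 1)).smulRight j
  have hext : ∀ g v, ext g v = (g.1 ⟨_, hmem v⟩ : Fin (2 * k + 1) → F) + coordSum F (2 * k + 1) v • j :=
    fun g v => rfl
  have hextiso : ∀ g u v, ext g u ⬝ᵥ ext g v = u ⬝ᵥ v := fun g u v => by
    have h := g.2 ⟨_, hmem u⟩ ⟨_, hmem v⟩
    rw [hB₀, hB₀] at h
    have hjj' : j ⬝ᵥ j = 1 := by rw [hj, dot_one]; exact hjj
    rw [hext, hext]
    simp only [add_dotProduct, dotProduct_add, smul_dotProduct, dotProduct_smul, hjW, hjj',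
      dotProduct_comm _ j, h, smul_eq_mul]
    rw [show j ⬝ᵥ v = coordSum F (2 * k + 1) v by rw [hj, dot_one],
      show j ⬝ᵥ u = coordSum F (2 * k + 1) u by rw [hj, dot_one]]
    linear_combination (2 * coordSum F (2 * k + 1) u * coordSum F (2 * k + 1) v) * h2
  have hres : ∀ A : MatIso (1 : Matrix (Fin (2 * k + 1)) (Fin (2 * k + 1)) F), ∀ w : W,
      Matrix.toLin' A.1 (w : Fin (2 * k + 1) → F) ∈ W := fun A w => by
    show coordSum F (2 * k + 1) (Matrix.toLin' A.1 (w : Fin (2 * k + 1) → F)) = 0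
    rw [Matrix.toLin'_apply, (matIso_one_fix A.2).1]
    exact LinearMap.mem_ker.1 w.2
  let toG : MatIso (1 : Matrix (Fin (2 * k + 1)) (Fin (2 * k + 1)) F) → Alt.isoGroup B₀ := fun A =>
    ⟨LinearEquiv.ofInjectiveEndo ((Matrix.toLin' A.1).restrict fun w hw => hres A ⟨w, hw⟩) (fun a b e => by
        refine Subtype.ext ?_
        have e' : A.1 *ᵥ (a : Fin (2 * k + 1) → F) = A.1 *ᵥ b := congrArg Subtype.val e
        have h := congrArg (A.1ᵀ *ᵥ ·) e'
        simpa [Matrix.mulVec_mulVec, show A.1ᵀ * A.1 = 1 by simpa using A.2] using h),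
      fun a b => by
        rw [hB₀, hB₀]
        exact (matIso_one_iff A.1).1 A.2 a b⟩
  refine Nat.card_eq_of_bijective toG ⟨fun A A' e => ?_, fun g => ?_⟩
  · refine Subtype.ext (Matrix.ext_of_mulVec_single fun i => ?_)
    have e1 : A.1 *ᵥ (Pi.single i 1 + coordSum F (2 * k + 1) (Pi.single i 1) • j) =
        A'.1 *ᵥ (Pi.single i 1 + coordSum F (2 * k + 1) (Pi.single i 1) • j) :=
      congrArg Subtype.val (congrArg (fun g : Alt.isoGroup B₀ => g.1 ⟨_, hmem (Pi.single i 1)⟩) e)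
    rw [Matrix.mulVec_add, Matrix.mulVec_add, Matrix.mulVec_smul, Matrix.mulVec_smul, hj,
      (matIso_one_fix A.2).2, (matIso_one_fix A'.2).2] at e1
    exact add_right_cancel e1
  · refine ⟨⟨LinearMap.toMatrix' (ext g), (matIso_one_iff _).2 fun u v => by
      rw [LinearMap.toMatrix'_mulVec, LinearMap.toMatrix'_mulVec, hextiso]⟩, ?_⟩
    refine Subtype.ext (LinearEquiv.ext fun w => Subtype.ext ?_)
    show LinearMap.toMatrix' (ext g) *ᵥ (w : Fin (2 * k + 1) → F) = _
    have hw0 : coordSum F (2 * k + 1) (w : Fin (2 * k + 1) → F) = 0 := LinearMap.mem_ker.1 w.2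
    rw [LinearMap.toMatrix'_mulVec, hext, show (⟨_, hmem (w : Fin (2 * k + 1) → F)⟩ : W) = w from
      Subtype.ext (by simp [hw0]), hw0, zero_smul, add_zero]

/-- Adding a fixed first vector. -/
def extFirst {n : ℕ} (A : Matrix (Fin n) (Fin n) F) : Matrix (Fin (n + 1)) (Fin (n + 1)) F :=
  Matrix.of fun i j => Fin.cases (motive := fun _ => F) (if j = 0 then 1 else 0)
    (fun i' => Fin.cases (motive := fun _ => F) 0 (A i') j) i

theorem extFirst_mem {n : ℕ} {A : Matrix (Fin n) (Fin n) F} (h : Aᵀ * 1 * A = 1) :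
    (extFirst A)ᵀ * 1 * extFirst A = 1 := by
  rw [Matrix.mul_one] at h ⊢
  ext i j
  rw [Matrix.mul_apply, Fin.sum_univ_succ]
  refine Fin.cases ?_ (fun i' => ?_) i <;> refine Fin.cases ?_ (fun j' => ?_) j
  · simp [extFirst]
  · simp [extFirst, Fin.succ_ne_zero, (Fin.succ_ne_zero j').symm]
  · simp [extFirst, Fin.succ_ne_zero]
  · have := congrFun (congrFun h i') j'
    simp only [Matrix.mul_apply, Matrix.transpose_apply] at this
    simp [extFirst, Fin.succ_ne_zero, this, Matrix.one_apply]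

theorem matIso_trans {n : ℕ} {v x : Fin n → F} (hvx : x ⬝ᵥ x = 0) (hne : x ⬝ᵥ v ≠ 0) :
    ∃ A : MatIso (1 : Matrix (Fin n) (Fin n) F), A.1 *ᵥ v = v + x := by
  refine ⟨⟨1 + (x ⬝ᵥ v)⁻¹ • Matrix.vecMulVec x x, (matIso_one_iff _).2 fun a b => ?_⟩, ?_⟩
  · simp only [Matrix.add_mulVec, Matrix.one_mulVec, Matrix.smul_mulVec, Matrix.vecMulVec_mulVec,
      op_smul_eq_smul, smul_smul, add_dotProduct, dotProduct_add, smul_dotProduct, dotProduct_smul, smul_eq_mul,
      hvx, dotProduct_comm _ x]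
    linear_combination ((x ⬝ᵥ v)⁻¹ * (x ⬝ᵥ a) * (x ⬝ᵥ b)) * (CharTwo.two_eq_zero : (2 : F) = 0)
  · show (1 + (x ⬝ᵥ v)⁻¹ • Matrix.vecMulVec x x) *ᵥ v = v + x
    rw [Matrix.add_mulVec, Matrix.one_mulVec, Matrix.smul_mulVec, Matrix.vecMulVec_mulVec, op_smul_eq_smul,
      smul_smul, inv_mul_cancel₀ hne, one_smul]

/-- Transitivity on the vectors of coordinate sum one, for an even number of coordinates. -/
theorem exists_matIso_first {k : ℕ} {v : Fin (2 * k + 2) → F} (hv : coordSum F (2 * k + 2) v = 1) :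
    ∃ A : MatIso (1 : Matrix (Fin (2 * k + 2)) (Fin (2 * k + 2)) F), A.1 *ᵥ Pi.single 0 1 = v := by
  classical
  have h2 : (2 : F) = 0 := CharTwo.two_eq_zero
  set e : Fin (2 * k + 2) → F := Pi.single 0 1 with he
  have hse : coordSum F (2 * k + 2) e = 1 := by
    show ∑ i, (Pi.single 0 1 : Fin (2 * k + 2) → F) i = 1
    simp
  have step : ∀ a b : Fin (2 * k + 2) → F, coordSum F (2 * k + 2) a = 1 → coordSum F (2 * k + 2) b = 1 →
      b ⬝ᵥ a ≠ 1 → ∃ A : MatIso (1 : Matrix (Fin (2 * k + 2)) (Fin (2 * k + 2)) F), A.1 *ᵥ a = b := by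
    intro a b ha hb hne
    obtain ⟨A, hA⟩ := matIso_trans (v := a) (x := a + b)
      (by rw [dot_self, map_add, ha, hb, one_add_one_eq_two, h2]; simp)
      (by
        rw [add_dotProduct, dot_self, ha, one_pow]
        intro h
        exact hne (by linear_combination h - h2))
    exact ⟨A, by rw [hA, ← add_assoc, add_self' F a, zero_add]⟩
  by_cases hv0 : v 0 = 1
  swap
  · exact step e v hse hv (by simpa [he] using hv0)
  by_cases hve : v = e
  · exact ⟨⟨1, by simp⟩, by simp [hve]⟩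
  obtain ⟨i, l, hi, hl, hil⟩ : ∃ i l : Fin (2 * k + 2), i ≠ 0 ∧ l ≠ 0 ∧ v i ≠ v l := by
    by_contra hc
    push Not at hc
    refine hve (funext fun a => ?_)
    obtain ⟨c, hc'⟩ : ∃ c, ∀ a : Fin (2 * k + 1), v a.succ = c :=
      ⟨v (Fin.succ 0), fun a => hc _ _ (Fin.succ_ne_zero a) (Fin.succ_ne_zero 0)⟩
    have hsum : 1 + ((2 * k + 1 : ℕ) : F) * c = 1 := by
      refine Eq.trans ?_ hv
      show _ = ∑ i, v i
      rw [Fin.sum_univ_succ, hv0]
      simp [hc']
    have hc0 : c = 0 := by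
      push_cast at hsum
      linear_combination hsum - k * c * h2
    refine Fin.cases ?_ (fun a => ?_) a
    · simpa [he] using hv0
    · simp [he, hc', hc0, Fin.succ_ne_zero]
  have hne' : v i + v l ≠ 0 := fun h => hil (CharTwo.add_eq_zero.1 h)
  set c := v i / (v i + v l) with hc
  set z : Fin (2 * k + 2) → F := Pi.single i (1 + c) + Pi.single l c with hz
  have hsz : coordSum F (2 * k + 2) z = 1 := by
    show ∑ a, z a = 1
    simp only [hz, Pi.add_apply, Finset.sum_add_distrib, Finset.sum_pi_single', Finset.mem_univ, if_true]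
    linear_combination c * h2
  have hz0 : z ⬝ᵥ e ≠ 1 := by simp [he, hz, hi.symm, hl.symm]
  have hzv : v ⬝ᵥ z ≠ 1 := by
    have : v ⬝ᵥ z = v i + c * (v i + v l) := by
      simp [hz, dotProduct_add, dotProduct_single]; ring
    rw [this, hc, div_mul_cancel₀ _ hne', CharTwo.add_self_eq_zero]
    exact zero_ne_one
  obtain ⟨A, hA⟩ := step e z hse hsz hz0
  obtain ⟨A', hA'⟩ := step z v hsz hv hzv
  refine ⟨⟨A'.1 * A.1, (matIso_one_iff _).2 fun a b => ?_⟩, by rw [← Matrix.mulVec_mulVec, hA, hA']⟩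
  rw [← Matrix.mulVec_mulVec, ← Matrix.mulVec_mulVec, (matIso_one_iff _).1 A'.2, (matIso_one_iff _).1 A.2]

theorem card_matIso_one_even [Fintype F] {q : ℕ} (hF : Fintype.card F = q) (k : ℕ) :
    Nat.card (MatIso (1 : Matrix (Fin (2 * k + 2)) (Fin (2 * k + 2)) F)) =
      q ^ (2 * k + 1) * (q ^ (k ^ 2) * ∏ i ∈ Finset.range k, (q ^ (2 * (i + 1)) - 1)) := by
  classical
  let S : Set (Fin (2 * k + 2) → F) := {v | coordSum F (2 * k + 2) v = 1}
  have hex : ∀ v : S, ∃ A : MatIso (1 : Matrix (Fin (2 * k + 2)) (Fin (2 * k + 2)) F),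
      A.1 *ᵥ Pi.single 0 1 = v := fun v => exists_matIso_first v.2
  choose sec hsec using hex
  have hmulmem : ∀ A B : Matrix (Fin (2 * k + 2)) (Fin (2 * k + 2)) F, Aᵀ * 1 * A = 1 → Bᵀ * 1 * B = 1 →
      (A * B)ᵀ * 1 * (A * B) = 1 := fun A B hA hB => by
    rw [Matrix.transpose_mul, show Bᵀ * Aᵀ * 1 * (A * B) = Bᵀ * (Aᵀ * 1 * A) * B by simp only [Matrix.mul_assoc],
      hA, hB]
  have hfirst : ∀ A : Matrix (Fin (2 * k + 1)) (Fin (2 * k + 1)) F, extFirst A *ᵥ Pi.single 0 1 = Pi.single 0 1 :=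
    fun A => funext fun i => Fin.cases (by simp [extFirst]) (fun i' => by simp [extFirst]) i
  have hcard : Nat.card S = q ^ (2 * k + 1) := by
    rw [← hF, show Fintype.card F ^ (2 * k + 1) = Nat.card (Fin (2 * k + 1) → F) by
      rw [Nat.card_fun, Nat.card_fin, Nat.card_eq_fintype_card]]
    refine Nat.card_congr
      { toFun := fun v i => v.1 i.succ
        invFun := fun u => ⟨Fin.cons (1 + ∑ i, u i) u, ?_⟩
        left_inv := fun v => Subtype.ext (funext fun i => ?_)
        right_inv := fun u => funext fun i => by simp }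
    · show ∑ a, (Fin.cons (1 + ∑ i, u i) u : Fin (2 * k + 2) → F) a = 1
      rw [Fin.sum_univ_succ]
      simp only [Fin.cons_zero, Fin.cons_succ]
      rw [add_assoc, CharTwo.add_self_eq_zero, add_zero]
    · refine Fin.cases ?_ (fun i => ?_) i
      · have h : ∑ a, v.1 a = 1 := v.2
        rw [Fin.sum_univ_succ] at h
        simp only [Fin.cons_zero]
        rw [← h, add_assoc, CharTwo.add_self_eq_zero, add_zero]
      · simp
  rw [← hcard, ← card_matIso_one_odd hF k, ← Nat.card_prod]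
  refine (Nat.card_eq_of_bijective (fun p : S × MatIso (1 : Matrix (Fin (2 * k + 1)) (Fin (2 * k + 1)) F) =>
    (⟨(sec p.1).1 * extFirst p.2.1, hmulmem _ _ (sec p.1).2 (extFirst_mem p.2.2)⟩ :
      MatIso (1 : Matrix (Fin (2 * k + 2)) (Fin (2 * k + 2)) F))) ⟨?_, ?_⟩).symm
  · rintro ⟨v, A⟩ ⟨v', A'⟩ e
    have e' : (sec v).1 * extFirst A.1 = (sec v').1 * extFirst A'.1 := congrArg Subtype.val e
    have h := congrArg (· *ᵥ Pi.single 0 1) e'
    simp only [← Matrix.mulVec_mulVec, hfirst, hsec] at h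
    obtain rfl : v = v' := Subtype.ext h
    have h' := congrArg ((sec v).1ᵀ * ·) e'
    simp only [← Matrix.mul_assoc, show (sec v).1ᵀ * (sec v).1 = 1 by simpa using (sec v).2, Matrix.one_mul] at h'
    refine Prod.ext rfl (Subtype.ext ?_)
    ext i j
    have := congrFun (congrFun h' i.succ) j.succ
    simpa [extFirst] using this
  · intro A
    let v : S := ⟨A.1 *ᵥ Pi.single 0 1, by
      show coordSum F _ _ = 1
      rw [(matIso_one_fix A.2).1]
      show ∑ i, (Pi.single 0 1 : Fin (2 * k + 2) → F) i = 1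
      simp⟩
    set C := (sec v).1ᵀ * A.1 with hC
    have hs : (sec v).1ᵀ * (sec v).1 = 1 := by simpa using (sec v).2
    have hs' : (sec v).1 * (sec v).1ᵀ = 1 := mul_eq_one_comm.1 hs
    have hCiso : Cᵀ * 1 * C = 1 := hmulmem _ _ (by simpa using hs') A.2
    have hcol : C *ᵥ Pi.single 0 1 = Pi.single 0 1 := by
      rw [hC, ← Matrix.mulVec_mulVec, show A.1 *ᵥ Pi.single 0 1 = (v : Fin (2 * k + 2) → F) from rfl, ← hsec v,
        Matrix.mulVec_mulVec, hs, Matrix.one_mulVec]
    have hc : ∀ a, C a 0 = if a = 0 then 1 else 0 := fun a => by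
      have := congrFun hcol a
      simpa [Pi.single_apply] using this
    have hr : ∀ b, C 0 b = if b = 0 then 1 else 0 := fun b => by
      have := congrFun (congrFun hCiso 0) b
      rw [Matrix.mul_one, Matrix.mul_apply] at this
      simpa [Matrix.transpose_apply, hc, Matrix.one_apply, eq_comm] using this
    have hCe : extFirst (Matrix.of fun i j => C i.succ j.succ) = C := by
      ext a b
      refine Fin.cases ?_ (fun a => ?_) a
      · simp [extFirst, hr]
      · refine Fin.cases ?_ (fun b => ?_) b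
        · simp [extFirst, hc, Fin.succ_ne_zero]
        · simp [extFirst]
    refine ⟨⟨v, ⟨Matrix.of fun i j => C i.succ j.succ, ?_⟩⟩, Subtype.ext ?_⟩
    · ext i j
      have := congrFun (congrFun hCiso i.succ) j.succ
      rw [Matrix.mul_one, Matrix.mul_apply, Fin.sum_univ_succ] at this
      simpa [Matrix.mul_apply, Matrix.transpose_apply, hr, Fin.succ_ne_zero, Matrix.one_apply] using this
    · show (sec v).1 * extFirst (Matrix.of fun i j => C i.succ j.succ) = A.1
      rw [hCe, hC, ← Matrix.mul_assoc, hs', Matrix.one_mul]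

end dotIso

end Cfsg.Agent.CharTwoInvol
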