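import Mathlib
import Cfsg.Agent.CharTwoInvol.Count

/-!
The two types of frame involutions (non-alternating: matrix `1`; alternating: matrix `J`) are distinguished by the
rank and by the vanishing of `v ↦ B v (t v)`; classification of conjugacy classes from transitivity on frames.
-/

set_option autoImplicit false
set_option linter.unusedSectionVars false

namespace Cfsg.Agent.CharTwoInvol

open Module Matrix
open Cfsg.Agent.Classical

variable {F V : Type*} [Field F] [CharP F 2] [AddCommGroup V] [Module F V] [FiniteDimensional F V]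
  {B : LinearMap.BilinForm F V}

theorem nonalt_one (hA : B.IsAlt) (hB : B.Nondegenerate) {κ : Type*} [Fintype κ] [DecidableEq κ] [Nonempty κ]
    {t : V ≃ₗ[F] V} {w : κ → V} (hw : IsFrame B w) (h : IsT B t w 1) : ∃ v, B v (t v) ≠ 0 := by
  obtain ⟨i⟩ := (inferInstance : Nonempty κ)
  obtain ⟨v, hv⟩ := pairMap_surjective hB hw.indep (Pi.single i 1)
  refine ⟨v, ?_⟩
  rw [h.form_self hA, Matrix.vecMul_one, hv]
  simp

theorem alt_J (hA : B.IsAlt) {k : ℕ} {t : V ≃ₗ[F] V} {w : Fin k ⊕ Fin k → V}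
    (h : IsT B t w (Matrix.J (Fin k) F)) (v : V) : B v (t v) = 0 := by
  rw [h.form_self hA]
  simp only [Matrix.vecMul, dotProduct, J_eq_swap, mul_ite, mul_one, mul_zero]
  rw [Fintype.sum_sum_type]
  simp only [Fintype.sum_sum_type, Sum.swap_inl, Sum.swap_inr, reduceCtorEq, if_false, Sum.inl.injEq,
    Sum.inr.injEq, Finset.sum_ite_eq, Finset.mem_univ, if_true, Finset.sum_const_zero, zero_add, add_zero]
  rw [← Finset.sum_add_distrib]
  refine Finset.sum_eq_zero fun i _ => ?_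
  linear_combination (pairMap B w v (.inl i) * pairMap B w v (.inr i)) * (CharTwo.two_eq_zero : (2 : F) = 0)

theorem finrank_one (hB : B.Nondegenerate) {κ : Type*} [Fintype κ] [DecidableEq κ] {t : V ≃ₗ[F] V} {w : κ → V}
    (hw : IsFrame B w) (h : IsT B t w 1) : finrank F (LinearMap.range (nil t)) = Fintype.card κ :=
  h.finrank_nil hB hw.indep isUnit_one

theorem finrank_J (hB : B.Nondegenerate) {k : ℕ} {t : V ≃ₗ[F] V} {w : Fin k ⊕ Fin k → V}
    (hw : IsFrame B w) (h : IsT B t w (Matrix.J (Fin k) F)) : finrank F (LinearMap.range (nil t)) = 2 * k := by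
  rw [h.finrank_nil hB hw.indep (isUnit_J k)]
  simp [two_mul]

theorem nil_one : nil (1 : V ≃ₗ[F] V) = 0 := LinearMap.ext fun v => by
  rw [nil_apply]
  exact add_self' F v

theorem ne_one_of_finrank {t : V ≃ₗ[F] V} (h : finrank F (LinearMap.range (nil t)) ≠ 0) : t ≠ 1 := fun e => by
  rw [e, nil_one, LinearMap.range_zero, finrank_bot] at h
  exact h rfl

theorem conj_finrank_nil (g t : V ≃ₗ[F] V) :
    finrank F (LinearMap.range (nil (g * t * g⁻¹))) = finrank F (LinearMap.range (nil t)) := by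
  have e : nil (g * t * g⁻¹) = g.toLinearMap.comp ((nil t).comp (g⁻¹).toLinearMap) := LinearMap.ext fun v => by
    simp only [nil_apply, LinearEquiv.mul_apply, LinearMap.comp_apply, LinearEquiv.coe_coe, map_add,
      Alt.apply_inv_self]
  rw [e, LinearMap.range_comp, LinearMap.range_comp_of_range_eq_top _ (LinearEquiv.range _),
    LinearEquiv.finrank_map_eq]

theorem conj_alt_iff {g t : V ≃ₗ[F] V} (hg : g ∈ Alt.isoGroup B) :
    (∀ v, B v ((g * t * g⁻¹) v) = 0) ↔ ∀ v, B v (t v) = 0 := by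
  have key : ∀ v, B (g v) ((g * t * g⁻¹) (g v)) = B v (t v) := fun v => by
    rw [LinearEquiv.mul_apply, LinearEquiv.mul_apply, Alt.inv_apply_self, hg]
  refine ⟨fun h v => by rw [← key]; exact h _, fun h v => ?_⟩
  have := key (g⁻¹ v)
  rw [Alt.apply_inv_self] at this
  rw [this]
  exact h _

variable {G : Type*} [Group G] (ρ : G →* (V ≃ₗ[F] V))

theorem orderOf_eq_two (hρ : Function.Injective ρ) {g : G} (hg : ρ g * ρ g = 1) (h1 : ρ g ≠ 1) : orderOf g = 2 := by
  refine orderOf_eq_prime (hρ (by rw [pow_two, map_mul, hg, map_one])) fun e => h1 (by rw [e, map_one])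

theorem sq_of_orderOf {g : G} (hg : orderOf g = 2) : ρ g * ρ g = 1 := by
  have := pow_orderOf_eq_one g
  rw [hg, pow_two] at this
  rw [← map_mul, this, map_one]

/-- Representatives of the two types, indexed by `Fin a ⊕ Fin b`, are pairwise non-conjugate. -/
theorem types_inj (hA : B.IsAlt) (hB : B.Nondegenerate) (hiso : ∀ g, ρ g ∈ Alt.isoGroup B) {a b : ℕ}
    (rep : Fin a ⊕ Fin b → G)
    (w₁ : ∀ i : Fin a, Fin (i.val + 1) → V) (hw₁ : ∀ i, IsFrame B (w₁ i))
    (h₁ : ∀ i, IsT B (ρ (rep (.inl i))) (w₁ i) 1)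
    (w₂ : ∀ i : Fin b, Fin (i.val + 1) ⊕ Fin (i.val + 1) → V) (hw₂ : ∀ i, IsFrame B (w₂ i))
    (h₂ : ∀ i, IsT B (ρ (rep (.inr i))) (w₂ i) (Matrix.J (Fin (i.val + 1)) F))
    (x y : Fin a ⊕ Fin b) (hxy : IsConj (rep x) (rep y)) : x = y := by
  obtain ⟨g, hg⟩ := isConj_iff.1 hxy
  have hr : finrank F (LinearMap.range (nil (ρ (rep y)))) = finrank F (LinearMap.range (nil (ρ (rep x)))) := by
    rw [← hg, map_mul, map_mul, map_inv, conj_finrank_nil]
  have hiff : (∀ v, B v (ρ (rep y) v) = 0) ↔ ∀ v, B v (ρ (rep x) v) = 0 := by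
    rw [← hg, map_mul, map_mul, map_inv, conj_alt_iff (hiso g)]
  rcases x with i | i <;> rcases y with j | j
  · rw [finrank_one hB (hw₁ j) (h₁ j), finrank_one hB (hw₁ i) (h₁ i), Fintype.card_fin, Fintype.card_fin] at hr
    exact congrArg Sum.inl (Fin.ext (by omega))
  · exfalso
    obtain ⟨v, hv⟩ := nonalt_one hA hB (hw₁ i) (h₁ i)
    exact hv (hiff.1 (alt_J hA (h₂ j)) v)
  · exfalso
    obtain ⟨v, hv⟩ := nonalt_one hA hB (hw₁ j) (h₁ j)
    exact hv (hiff.2 (alt_J hA (h₂ i)) v)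
  · rw [finrank_J hB (hw₂ j) (h₂ j), finrank_J hB (hw₂ i) (h₂ i)] at hr
    exact congrArg Sum.inr (Fin.ext (by omega))

end Cfsg.Agent.CharTwoInvol
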