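import Mathlib
import Cfsg.Agent.CharTwoInvol.Types
import Cfsg.Agent.Classical.OrthInvol

/-!
Involutions of orthogonal groups in characteristic two: frames, transitivity, normal forms, classes in `O(Q)` and
in the kernel of the Dickson invariant.
-/

set_option autoImplicit false
set_option linter.unusedSectionVars false

namespace Cfsg.Agent.CharTwoInvol.Orth

open Module Matrix QuadraticMap
open Cfsg.Agent.Classical

section ker

/-- Classes of involutions in the kernel of a sign character. -/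
theorem card_invClasses_ker {G T : Type*} [Group G] [Finite T] (δ : G →* ℤˣ) (rep : T → G) (r : G) (hr : δ r = -1)
    (h2 : ∀ i, orderOf (rep i) = 2) (hker : ∀ i, δ (rep i) = 1)
    (hall : ∀ g : G, orderOf g = 2 → δ g = 1 → ∃ i, IsConj (rep i) g)
    (hinj : ∀ i j, IsConj (rep i) (rep j) → i = j) (split : T → Prop)
    (hns : ∀ i, ¬split i → ∃ c, c * rep i = rep i * c ∧ δ c = -1)
    (hs : ∀ i, split i → ∀ c, c * rep i = rep i * c → δ c = 1) :
    Nat.card {C : ConjClasses δ.ker // ∃ g, ConjClasses.mk g = C ∧ orderOf g = 2} =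
      Nat.card T + Nat.card {i // split i} := by
  classical
  have hmem : ∀ i, rep i ∈ δ.ker := fun i => MonoidHom.mem_ker.2 (hker i)
  have hmem' : ∀ i, r * rep i * r⁻¹ ∈ δ.ker := fun i => δ.normal_ker.conj_mem _ (hmem i) r
  let rep' : T ⊕ {i // split i} → δ.ker :=
    Sum.elim (fun i => ⟨rep i, hmem i⟩) (fun i => ⟨r * rep i.1 * r⁻¹, hmem' i.1⟩)
  have hord : ∀ x : δ.ker, orderOf x = orderOf (x : G) := fun x => (Subgroup.orderOf_coe x).symm
  rw [card_invClasses rep' ?_ ?_ ?_, Nat.card_sum]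
  · rintro (i | i) <;> rw [hord]
    · exact h2 i
    · show orderOf (r * rep i.1 * r⁻¹) = 2
      rw [← MulAut.conj_apply, MulEquiv.orderOf_eq]
      exact h2 _
  · intro g hg
    rw [hord] at hg
    obtain ⟨i, hi⟩ := hall g.1 hg (MonoidHom.mem_ker.1 g.2)
    obtain ⟨c, hc⟩ := isConj_iff.1 hi
    rcases Int.units_eq_one_or (δ c) with h | h
    · exact ⟨.inl i, isConj_iff.2 ⟨⟨c, MonoidHom.mem_ker.2 h⟩, Subtype.ext hc⟩⟩
    · by_cases hsp : split i
      · refine ⟨.inr ⟨i, hsp⟩, isConj_iff.2 ⟨⟨c * r⁻¹, MonoidHom.mem_ker.2 (by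
          rw [map_mul, map_inv, h, hr]; rfl)⟩, Subtype.ext ?_⟩⟩
        show c * r⁻¹ * (r * rep i * r⁻¹) * (c * r⁻¹)⁻¹ = g.1
        rw [← hc]
        group
      · obtain ⟨d, hd, hd'⟩ := hns i hsp
        refine ⟨.inl i, isConj_iff.2 ⟨⟨c * d, MonoidHom.mem_ker.2 (by rw [map_mul, h, hd']; rfl)⟩, Subtype.ext ?_⟩⟩
        show c * d * rep i * (c * d)⁻¹ = g.1
        rw [mul_assoc c d, hd, ← hc]
        group
  · intro x y hxy
    obtain ⟨c, hc⟩ := isConj_iff.1 hxy
    have hc' : (c : G) * (rep' x : G) * (c : G)⁻¹ = rep' y := congrArg Subtype.val hc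
    have hδc : δ c = 1 := MonoidHom.mem_ker.1 c.2
    rcases x with i | ⟨i, hi⟩ <;> rcases y with j | ⟨j, hj⟩
    · obtain rfl := hinj i j (isConj_iff.2 ⟨c, hc'⟩)
      rfl
    · exfalso
      replace hc' : (c : G) * rep i * (c : G)⁻¹ = r * rep j * r⁻¹ := hc'
      obtain rfl := hinj i j (isConj_iff.2 ⟨r⁻¹ * c, by
        calc r⁻¹ * c * rep i * (r⁻¹ * c)⁻¹ = r⁻¹ * ((c : G) * rep i * (c : G)⁻¹) * r := by group
          _ = rep j := by rw [hc']; group⟩)
      have h1 := hs i hj (r⁻¹ * c) (by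
        calc r⁻¹ * c * rep i = r⁻¹ * ((c : G) * rep i * (c : G)⁻¹) * c := by group
          _ = rep i * (r⁻¹ * c) := by rw [hc']; group)
      rw [map_mul, map_inv, hr, hδc] at h1
      exact absurd h1 (by decide)
    · exfalso
      replace hc' : (c : G) * (r * rep i * r⁻¹) * (c : G)⁻¹ = rep j := hc'
      obtain rfl := hinj i j (isConj_iff.2 ⟨c * r, by rw [← hc']; group⟩)
      have h1 := hs i hi (c * r) (by
        calc c * r * rep i = (c : G) * (r * rep i * r⁻¹) * (c : G)⁻¹ * (c * r) := by group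
          _ = rep i * (c * r) := by rw [hc'])
      rw [map_mul, hr, hδc] at h1
      exact absurd h1 (by decide)
    · replace hc' : (c : G) * (r * rep i * r⁻¹) * (c : G)⁻¹ = r * rep j * r⁻¹ := hc'
      obtain rfl := hinj i j (isConj_iff.2 ⟨r⁻¹ * c * r, by
        calc r⁻¹ * c * r * rep i * (r⁻¹ * c * r)⁻¹ = r⁻¹ * ((c : G) * (r * rep i * r⁻¹) * (c : G)⁻¹) * r := by group
          _ = rep j := by rw [hc']; group⟩)
      rfl

/-- Elements of the kernel of a sign character that commute with `x`, in the presence of an odd one. -/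
theorem card_ker_comm_half {G : Type*} [Group G] (δ : G →* ℤˣ) {x c : G} (hc : c * x = x * c) (hc' : δ c = -1) :
    2 * Nat.card {g : δ.ker // (g : G) * x = x * g} = Nat.card {g : G // g * x = x * g} := by
  let C : Subgroup G := Subgroup.centralizer {x}
  have hC : ∀ g, g ∈ C ↔ g * x = x * g := fun g => Subgroup.mem_centralizer_singleton_iff
  let φ : C →* ℤˣ := δ.comp C.subtype
  have hsurj : Function.Surjective φ := fun u => by
    rcases Int.units_eq_one_or u with rfl | rfl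
    · exact ⟨1, map_one _⟩
    · exact ⟨⟨c, (hC c).2 hc⟩, hc'⟩
  have h := φ.ker.card_mul_index
  rw [Subgroup.index_ker, MonoidHom.range_eq_top.2 hsurj, Subgroup.card_top, Nat.card_eq_fintype_card (α := ℤˣ),
    Fintype.card_units_int] at h
  have e1 : Nat.card {g : δ.ker // (g : G) * x = x * g} = Nat.card φ.ker :=
    Nat.card_congr
      { toFun := fun g => ⟨⟨g.1.1, (hC _).2 g.2⟩, g.1.2⟩
        invFun := fun g => ⟨⟨g.1.1, g.2⟩, (hC _).1 g.1.2⟩
        left_inv := fun g => rfl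
        right_inv := fun g => rfl }
  have e2 : Nat.card {g : G // g * x = x * g} = Nat.card C :=
    Nat.card_congr (Equiv.subtypeEquivRight fun g => (hC g).symm)
  rw [e1, e2, ← h, mul_comm]

end ker

variable {F V : Type*} [Field F] [CharP F 2] [AddCommGroup V] [Module F V] [FiniteDimensional F V]
  {Q : QuadraticForm F V}

theorem isAlt_polar (Q : QuadraticForm F V) : (polarBilin Q).IsAlt := fun x => by
  rw [polarBilin_apply_apply, Quad.polar_self', CharTwo.two_eq_zero, zero_mul]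

/-- The isometry group acting. -/
abbrev ρ (Q : QuadraticForm F V) : Quad.oG Q →* (V ≃ₗ[F] V) := (Quad.oG Q).subtype

theorem ρ_injective : Function.Injective (ρ Q) := Subtype.val_injective

theorem ρ_iso (g : Quad.oG Q) : ρ Q g ∈ Alt.isoGroup (polarBilin Q) := fun x y => Quad.polar_oG g x y

variable {κ : Type*} [Fintype κ]

/-- Frames of constant value `c`. -/
structure OFr (Q : QuadraticForm F V) (c : F) (w : κ → V) : Prop where
  frame : IsFrame (polarBilin Q) w
  val : ∀ i, Q (w i) = c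

theorem quad_sum (s : Finset κ) (w : κ → V) (hw : ∀ i j, polar Q (w i) (w j) = 0) (a : κ → F) :
    Q (∑ i ∈ s, a i • w i) = ∑ i ∈ s, a i ^ 2 * Q (w i) := by
  classical
  induction s using Finset.induction with
  | empty => simp
  | insert i s hi ih =>
    have h0 : ∀ j, polarBilin Q (a i • w i) (a j • w j) = 0 := fun j => by
      rw [polarBilin_apply_apply, polar_smul_left, polar_smul_right, hw, smul_zero, smul_zero]
    rw [Finset.sum_insert hi, Finset.sum_insert hi, Quad.map_add', ih, Quad.map_smul', _root_.sq,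
      ← polarBilin_apply_apply, map_sum, Finset.sum_eq_zero fun j _ => h0 j, add_zero]

theorem quad_comb {c : F} {w : κ → V} (hw : OFr Q c w) (a : κ → F) : Q (comb w a) = (∑ i, a i ^ 2) * c := by
  rw [comb_apply, quad_sum Finset.univ w hw.frame.orth, Finset.sum_mul]
  simp [hw.val]

theorem transitive (hQ : (polarBilin Q).Nondegenerate) {c : F} {w w' : κ → V} (hw : OFr Q c w)
    (hw' : OFr Q c w') : ∃ g, (fun i => ρ Q g (w i)) = w' := by
  let e := (Fintype.equivFin κ).symm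
  obtain ⟨g, hg, hgw⟩ := Quad.witt_family hQ _ (w ∘ e) (w' ∘ e) (hw.frame.indep.comp _ e.injective)
    (hw'.frame.indep.comp _ e.injective) (fun i => (hw.val _).trans (hw'.val _).symm)
    (fun i j => (hw.frame.orth _ _).trans (hw'.frame.orth _ _).symm)
  refine ⟨⟨g, hg⟩, funext fun i => ?_⟩
  simpa using hgw (e.symm i)

theorem move {c : F} {w : κ → V} (hw : OFr Q c w) (g : Quad.oG Q) : OFr Q c fun i => ρ Q g (w i) :=
  ⟨⟨hw.frame.indep.map' g.1.toLinearMap (LinearMap.ker_eq_bot.2 g.1.injective),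
    fun i j => (Quad.polar_oG g _ _).trans (hw.frame.orth i j)⟩, fun i => (g.2 _).trans (hw.val i)⟩

theorem mkT_one_mem [DecidableEq κ] {w : κ → V} (hw : OFr Q 1 w) : mkT w 1 hw.frame ∈ Quad.oG Q := fun v => by
  rw [mkT_apply, Quad.map_add', ← polarBilin_apply_apply, B_invN, invN_apply, quad_comb hw, mul_one, add_assoc]
  rw [show ∑ i, (pairMap (polarBilin Q) w v ᵥ* (1 : Matrix κ κ F)) i ^ 2 =
    (pairMap (polarBilin Q) w v ᵥ* (1 : Matrix κ κ F)) ⬝ᵥ pairMap (polarBilin Q) w v by simp [dotProduct, _root_.sq],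
    CharTwo.add_self_eq_zero, add_zero]

theorem mkT_J_mem {k : ℕ} {w : Fin k ⊕ Fin k → V} (hw : OFr Q 0 w) :
    mkT w (Matrix.J (Fin k) F) hw.frame ∈ Quad.oG Q := fun v => by
  have h := alt_J (isAlt_polar Q) (isT_mkT w (Matrix.J (Fin k) F) hw.frame) v
  rw [mkT_apply, map_add, isAlt_polar Q v, zero_add, polarBilin_apply_apply] at h
  rw [mkT_apply, Quad.map_add', h, invN_apply, quad_comb hw, mul_zero, add_zero, add_zero]

theorem val_nil (t : Quad.oG Q) (v : V) : Q (nil (ρ Q t) v) = polarBilin Q v (ρ Q t v) := by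
  rw [nil_apply, Quad.map_add', polarBilin_apply_apply, show Q (ρ Q t v) = Q v from t.2 v,
    CharTwo.add_self_eq_zero, zero_add, polar_comm]

theorem hmem_one [DecidableEq κ] {w : κ → V} (hw : OFr Q 1 w) (A : Matrix κ κ F) (hA : Aᵀ * 1 * A = 1) :
    OFr Q 1 fun i => comb w (A i) := by
  rw [Matrix.mul_one] at hA
  have hA' : A * Aᵀ = 1 := mul_eq_one_comm.1 hA
  refine ⟨⟨?_, fun i j => ?_⟩, fun i => ?_⟩
  · exact (Matrix.linearIndependent_rows_iff_isUnit.2 ⟨⟨A, Aᵀ, hA', hA⟩, rfl⟩).map' (comb w)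
      (LinearMap.ker_eq_bot.2 (comb_injective hw.frame.indep))
  · rw [comb_apply w (A j), map_sum]
    exact Finset.sum_eq_zero fun l _ => by
      rw [map_smul, smul_eq_mul, show polarBilin Q (comb w (A i)) (w l) = pairMap (polarBilin Q) w (comb w (A i)) l from rfl,
        hw.frame.pairMap_comb_zero, Pi.zero_apply, mul_zero]
  · rw [quad_comb hw, mul_one]
    have := congrFun (congrFun hA' i) i
    rw [Matrix.mul_apply, Matrix.one_apply_eq] at this
    rw [← this]
    simp [Matrix.transpose_apply, _root_.sq]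

theorem hmem_J {k : ℕ} {w : Fin k ⊕ Fin k → V} (hw : OFr Q 0 w) (A : Matrix (Fin k ⊕ Fin k) (Fin k ⊕ Fin k) F)
    (hA : Aᵀ * Matrix.J (Fin k) F * A = Matrix.J (Fin k) F) : OFr Q 0 fun i => comb w (A i) := by
  have hu : IsUnit A := by
    rw [Matrix.isUnit_iff_isUnit_det]
    have hd := congrArg Matrix.det hA
    rw [Matrix.det_mul, Matrix.det_mul, Matrix.det_transpose] at hd
    exact isUnit_iff_ne_zero.2 fun h0 => ((Matrix.isUnit_iff_isUnit_det _).1 (isUnit_J (F := F) k)).ne_zero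
      (by rw [← hd, h0, mul_zero])
  refine ⟨⟨?_, fun i j => ?_⟩, fun i => ?_⟩
  · exact (Matrix.linearIndependent_rows_iff_isUnit.2 hu).map' (comb w)
      (LinearMap.ker_eq_bot.2 (comb_injective hw.frame.indep))
  · rw [comb_apply w (A j), map_sum]
    exact Finset.sum_eq_zero fun l _ => by
      rw [map_smul, smul_eq_mul, show polarBilin Q (comb w (A i)) (w l) = pairMap (polarBilin Q) w (comb w (A i)) l from rfl,
        hw.frame.pairMap_comb_zero, Pi.zero_apply, mul_zero]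
  · rw [quad_comb hw, mul_zero]

/-- Normal form of an involution of `O(Q)`. -/
theorem normal_one [Finite F] (hQ : (polarBilin Q).Nondegenerate) (t : Quad.oG Q) (ht : ρ Q t * ρ Q t = 1)
    (hna : ∃ v, polarBilin Q v (ρ Q t v) ≠ 0) {s : ℕ} (hs : finrank F (LinearMap.range (nil (ρ Q t))) = s) :
    ∃ w : Fin s → V, OFr Q 1 w ∧ IsT (polarBilin Q) (ρ Q t) w 1 := by
  obtain ⟨w, hw, hT, hval⟩ := exists_isT_one (t := ρ Q t) (isAlt_polar Q) hQ (ρ_iso t) ht hna
  subst hs
  refine ⟨w, ⟨hw, fun i => ?_⟩, hT⟩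
  obtain ⟨v, hv, hv1⟩ := hval i
  rw [hv, val_nil, ← hv1, nil_apply, map_add (polarBilin Q v), isAlt_polar Q v, add_zero]

theorem normal_J (hQ : (polarBilin Q).Nondegenerate) (t : Quad.oG Q) (ht : ρ Q t * ρ Q t = 1)
    (halt : ∀ v, polarBilin Q v (ρ Q t v) = 0) :
    ∃ (k : ℕ) (w : Fin k ⊕ Fin k → V), 2 * k = finrank F (LinearMap.range (nil (ρ Q t))) ∧ OFr Q 0 w ∧
      IsT (polarBilin Q) (ρ Q t) w (Matrix.J (Fin k) F) := by
  obtain ⟨k, w, hk, hw, hT, hval⟩ := exists_isT_J (t := ρ Q t) (isAlt_polar Q) hQ (ρ_iso t) ht halt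
  refine ⟨k, w, hk, ⟨hw, fun i => ?_⟩, hT⟩
  obtain ⟨v, hv⟩ := hval i
  rw [hv, val_nil, halt]

theorem size_le (hQ : (polarBilin Q).Nondegenerate) {c : F} {w : κ → V} (hw : OFr Q c w) :
    2 * Fintype.card κ ≤ finrank F V := by
  have hsub : Submodule.span F (Set.range w) ≤
      LinearMap.BilinForm.orthogonal (polarBilin Q) (Submodule.span F (Set.range w)) := by
    refine Submodule.span_le.2 ?_
    rintro _ ⟨i, rfl⟩ n hn
    show polarBilin Q n (w i) = 0
    induction hn using Submodule.span_induction with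
    | mem a ha => obtain ⟨j, rfl⟩ := ha; exact hw.frame.orth j i
    | zero => simp
    | add a b _ _ pa pb => rw [map_add, LinearMap.add_apply, pa, pb, add_zero]
    | smul c a _ pa => rw [map_smul, LinearMap.smul_apply, pa, smul_zero]
  have h := Submodule.finrank_mono hsub
  rw [LinearMap.BilinForm.finrank_orthogonal hQ, finrank_span_eq_card hw.frame.indep] at h
  omega

theorem size_le_index {n : ℕ} (hν : ∀ U : Submodule F V, (∀ u ∈ U, Q u = 0) → finrank F U ≤ n) {w : κ → V}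
    (hw : OFr Q 0 w) : Fintype.card κ ≤ n := by
  have h := hν (Submodule.span F (Set.range w)) fun u hu => by
    rw [← range_comb] at hu
    obtain ⟨a, rfl⟩ := hu
    rw [quad_comb hw, mul_zero]
  rwa [finrank_span_eq_card hw.frame.indep] at h

theorem OFr.reindex {κ' : Type*} [Fintype κ'] {c : F} {w : κ → V} (hw : OFr Q c w) (f : κ' → κ)
    (hf : Function.Injective f) : OFr Q c (w ∘ f) :=
  ⟨⟨hw.frame.indep.comp _ hf, fun i j => hw.frame.orth _ _⟩, fun i => hw.val _⟩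

/-- A singular frame and an orthogonal vector of value one give a frame of value one. -/
theorem ofr_snoc {r : ℕ} {u : Fin r → V} (hu : OFr Q 0 u) {z : V} (hz : ∀ i, polar Q (u i) z = 0) (hz1 : Q z = 1) :
    OFr Q 1 (Fin.snoc (fun i => u i + z) z : Fin (r + 1) → V) := by
  have hzz : polar Q z z = 0 := isAlt_polar Q z
  have hzu : ∀ i, polar Q z (u i) = 0 := fun i => by rw [polar_comm]; exact hz i
  have huu : ∀ i j, polar Q (u i) (u j) = 0 := fun i j => hu.frame.orth i j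
  refine ⟨⟨Fintype.linearIndependent_iff.2 fun a ha => ?_, fun i j => ?_⟩, fun i => ?_⟩
  · rw [Fin.sum_univ_castSucc] at ha
    simp only [Fin.snoc_castSucc, Fin.snoc_last, smul_add, Finset.sum_add_distrib, ← Finset.sum_smul, add_assoc,
      ← add_smul] at ha
    have hq : Q (∑ i : Fin r, a i.castSucc • u i) = 0 := by
      rw [quad_sum Finset.univ u huu]
      simp [hu.val]
    rw [add_eq_zero_iff_eq_neg] at ha
    rw [ha, QuadraticMap.map_neg, Quad.map_smul', hz1, mul_one, mul_self_eq_zero] at hq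
    rw [hq, zero_smul, neg_zero] at ha
    have h0 := Fintype.linearIndependent_iff.1 hu.frame.indep _ ha
    intro i
    refine Fin.lastCases ?_ (fun i => h0 i) i
    simpa [h0] using hq
  · rw [polarBilin_apply_apply]
    refine Fin.lastCases ?_ (fun i => ?_) i <;> refine Fin.lastCases ?_ (fun j => ?_) j <;>
      simp [hzz, hzu, hz, huu]
  · refine Fin.lastCases ?_ (fun i => ?_) i
    · simpa using hz1
    · rw [Fin.snoc_castSucc, Quad.map_add', hu.val, hz1, hz, zero_add, add_zero]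

/-- The inverse construction. -/
theorem ofr_unsnoc {r : ℕ} {w : Fin (r + 1) → V} (hw : OFr Q 1 w) :
    OFr Q 0 (fun i : Fin r => w i.castSucc + w (Fin.last r)) ∧
      (∀ i : Fin r, polar Q (w i.castSucc + w (Fin.last r)) (w (Fin.last r)) = 0) ∧ Q (w (Fin.last r)) = 1 := by
  have hp : ∀ i j, polar Q (w i) (w j) = 0 := fun i j => hw.frame.orth i j
  refine ⟨⟨⟨?_, fun i j => ?_⟩, fun i => ?_⟩, fun i => ?_, hw.val _⟩
  · have hs := hw.frame.indep
    rw [Fintype.linearIndependent_iff] at hs ⊢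
    intro a ha i
    have := hs (Fin.snoc a (∑ j, a j)) (by
      rw [Fin.sum_univ_castSucc]
      simp only [Fin.snoc_castSucc, Fin.snoc_last, Finset.sum_smul]
      rw [← Finset.sum_add_distrib]
      simpa [smul_add] using ha) i.castSucc
    simpa using this
  · simp [hp]
  · rw [Quad.map_add', hw.val, hw.val, hp, add_zero, CharTwo.add_self_eq_zero]
  · simp [hp]

/-- The frames of value one of size `r + 1`. -/
def ofrEquiv (r : ℕ) :
    {w : Fin (r + 1) → V | OFr Q 1 w} ≃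
      Σ u : {u : Fin r → V | OFr Q 0 u}, {z : V // (∀ i, polar Q (u.1 i) z = 0) ∧ Q z = 1} where
  toFun w := ⟨⟨_, (ofr_unsnoc w.2).1⟩, ⟨w.1 (Fin.last r), (ofr_unsnoc w.2).2⟩⟩
  invFun x := ⟨_, ofr_snoc x.1.2 x.2.2.1 x.2.2.2⟩
  left_inv w := Subtype.ext (funext fun i => by
    refine Fin.lastCases ?_ (fun i => ?_) i
    · simp
    · simp [add_assoc, add_self' F])
  right_inv x := by
    obtain ⟨⟨u, hu⟩, z, hz⟩ := x
    refine Sigma.subtype_ext (Subtype.ext (funext fun i => ?_)) ?_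
    · simp [add_assoc, add_self' F]
    · simp

/-- Classes of involutions of `O(Q)`. -/
theorem card_classes [Finite F] (hQ : (polarBilin Q).Nondegenerate) (a b : ℕ)
    (hex₁ : ∀ i : Fin a, ∃ w : Fin (i.val + 1) → V, OFr Q 1 w)
    (hex₂ : ∀ i : Fin b, ∃ w : Fin (i.val + 1) ⊕ Fin (i.val + 1) → V, OFr Q 0 w)
    (hle₁ : ∀ (s : ℕ) (w : Fin s → V), OFr Q 1 w → s ≤ a)
    (hle₂ : ∀ (k : ℕ) (w : Fin k ⊕ Fin k → V), OFr Q 0 w → k ≤ b) :
    ∃ rep : Fin a ⊕ Fin b → Quad.oG Q, (∀ x, orderOf (rep x) = 2) ∧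
      (∀ g, orderOf g = 2 → ∃ x, IsConj (rep x) g) ∧ (∀ x y, IsConj (rep x) (rep y) → x = y) ∧
      (∀ i, finrank F (LinearMap.range (nil (ρ Q (rep (.inl i))))) = i.val + 1 ∧
        ∃ w : Fin (i.val + 1) → V, OFr Q 1 w ∧ IsT (polarBilin Q) (ρ Q (rep (.inl i))) w 1) ∧
      ∀ i, finrank F (LinearMap.range (nil (ρ Q (rep (.inr i))))) = 2 * (i.val + 1) ∧
        ∃ w : Fin (i.val + 1) ⊕ Fin (i.val + 1) → V, OFr Q 0 w ∧
          IsT (polarBilin Q) (ρ Q (rep (.inr i))) w (Matrix.J (Fin (i.val + 1)) F) := by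
  classical
  choose w₁ hw₁ using hex₁
  choose w₂ hw₂ using hex₂
  have hA := isAlt_polar Q
  let rep : Fin a ⊕ Fin b → Quad.oG Q := Sum.elim
    (fun i => ⟨mkT (w₁ i) 1 (hw₁ i).frame, mkT_one_mem (hw₁ i)⟩)
    (fun i => ⟨mkT (w₂ i) _ (hw₂ i).frame, mkT_J_mem (hw₂ i)⟩)
  have h₁ : ∀ i, IsT (polarBilin Q) (ρ Q (rep (.inl i))) (w₁ i) 1 := fun i => isT_mkT _ _ (hw₁ i).frame
  have h₂ : ∀ i, IsT (polarBilin Q) (ρ Q (rep (.inr i))) (w₂ i) (Matrix.J (Fin (i.val + 1)) F) :=
    fun i => isT_mkT _ _ (hw₂ i).frame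
  have r₁ : ∀ i, finrank F (LinearMap.range (nil (ρ Q (rep (.inl i))))) = i.val + 1 := fun i => by
    rw [finrank_one hQ (hw₁ i).frame (h₁ i), Fintype.card_fin]
  have r₂ : ∀ i, finrank F (LinearMap.range (nil (ρ Q (rep (.inr i))))) = 2 * (i.val + 1) := fun i =>
    finrank_J hQ (hw₂ i).frame (h₂ i)
  refine ⟨rep, ?_, ?_, types_inj (ρ Q) hA hQ ρ_iso rep w₁ (fun i => (hw₁ i).frame) h₁ w₂
    (fun i => (hw₂ i).frame) h₂, fun i => ⟨r₁ i, w₁ i, hw₁ i, h₁ i⟩, fun i => ⟨r₂ i, w₂ i, hw₂ i, h₂ i⟩⟩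
  · rintro (i | i)
    · exact orderOf_eq_two (ρ Q) ρ_injective (mkT_mul_self _ _ (hw₁ i).frame) (ne_one_of_finrank (by rw [r₁]; omega))
    · exact orderOf_eq_two (ρ Q) ρ_injective (mkT_mul_self _ _ (hw₂ i).frame) (ne_one_of_finrank (by rw [r₂]; omega))
  · intro t ht
    have ht2 := sq_of_orderOf (ρ Q) ht
    have ht1 : ρ Q t ≠ 1 := fun e => by
      rw [show t = 1 from ρ_injective (e.trans (map_one _).symm), orderOf_one] at ht
      omega
    have hr0 : finrank F (LinearMap.range (nil (ρ Q t))) ≠ 0 := fun h0 => ht1 (LinearEquiv.ext fun v => by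
      have hm : nil (ρ Q t) v ∈ LinearMap.range (nil (ρ Q t)) := LinearMap.mem_range_self _ _
      rw [Submodule.finrank_eq_zero.1 h0, Submodule.mem_bot, nil_apply] at hm
      show ρ Q t v = v
      rw [← add_zero (ρ Q t v), ← add_self' F v, ← add_assoc, hm, zero_add])
    obtain ⟨r, hr⟩ : ∃ r, finrank F (LinearMap.range (nil (ρ Q t))) = r + 1 := Nat.exists_eq_succ_of_ne_zero hr0
    by_cases hna : ∃ v, polarBilin Q v (ρ Q t v) ≠ 0
    · obtain ⟨w, hw, hT⟩ := normal_one hQ t ht2 hna hr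
      have hle := hle₁ _ w hw
      refine ⟨.inl ⟨r, by omega⟩, ?_⟩
      obtain ⟨g, hg⟩ := transitive hQ (hw₁ ⟨r, by omega⟩) hw
      refine isConj_iff.2 ⟨g, ρ_injective ?_⟩
      have h' := (h₁ ⟨r, by omega⟩).conj (ρ_iso g)
      rw [hg] at h'
      rw [map_mul, map_mul, map_inv]
      exact h'.eq hT
    · push Not at hna
      obtain ⟨k, w, hk, hw, hT⟩ := normal_J hQ t ht2 hna
      obtain ⟨k, rfl⟩ : ∃ j, k = j + 1 := ⟨k - 1, by omega⟩
      have hle := hle₂ _ w hw
      refine ⟨.inr ⟨k, by omega⟩, ?_⟩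
      obtain ⟨g, hg⟩ := transitive hQ (hw₂ ⟨k, by omega⟩) hw
      refine isConj_iff.2 ⟨g, ρ_injective ?_⟩
      have h' := (h₂ ⟨k, by omega⟩).conj (ρ_iso g)
      rw [hg] at h'
      rw [map_mul, map_mul, map_inv]
      exact h'.eq hT

theorem card_classes_O [Finite F] (hQ : (polarBilin Q).Nondegenerate) (a b : ℕ)
    (hex₁ : ∀ i : Fin a, ∃ w : Fin (i.val + 1) → V, OFr Q 1 w)
    (hex₂ : ∀ i : Fin b, ∃ w : Fin (i.val + 1) ⊕ Fin (i.val + 1) → V, OFr Q 0 w)
    (hle₁ : ∀ (s : ℕ) (w : Fin s → V), OFr Q 1 w → s ≤ a)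
    (hle₂ : ∀ (k : ℕ) (w : Fin k ⊕ Fin k → V), OFr Q 0 w → k ≤ b) :
    Nat.card {C : ConjClasses (Quad.oG Q) // ∃ g, ConjClasses.mk g = C ∧ orderOf g = 2} = a + b := by
  obtain ⟨rep, h2, hall, hinj, -, -⟩ := card_classes hQ a b hex₁ hex₂ hle₁ hle₂
  rw [card_invClasses rep h2 hall hinj, Nat.card_sum, Nat.card_fin, Nat.card_fin]

variable [Finite F]

/-- The Dickson invariant of an involution. -/
theorem dickson_eq (hQ : (polarBilin Q).Nondegenerate) (hex : Nat.card F ≠ 2 ∨ finrank F V ≠ 4) (t : Quad.oG Q) :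
    Quad.dickson hQ hex t = (-1 : ℤˣ) ^ finrank F (LinearMap.range (nil (ρ Q t))) := by
  show Quad.dsign t = _
  have e : Quad.fixSub t = LinearMap.ker (nil (ρ Q t)) := by
    ext x
    rw [Quad.mem_fixSub, LinearMap.mem_ker, nil_apply]
    refine ⟨fun h => ?_, fun h => ?_⟩
    · show t.1 x + x = 0
      rw [h, add_self' F]
    · rw [← add_zero (t.1 x), ← add_self' F x, ← add_assoc]
      show ρ Q t x + x + x = x
      rw [h, zero_add]
  have h := LinearMap.finrank_range_add_finrank_ker (nil (ρ Q t))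
  rw [Quad.dsign, e, ← h, add_assoc, pow_add, ← two_mul, pow_mul, neg_one_sq, one_pow, mul_one]

theorem fix_of_perp {t : Quad.oG Q} {w : κ → V} {M : Matrix κ κ F} (hT : IsT (polarBilin Q) (ρ Q t) w M) {v : V}
    (hv : ∀ i, polar Q v (w i) = 0) : t.1 v = v := by
  show ρ Q t v = v
  rw [hT.apply, invN_apply, show pairMap (polarBilin Q) w v = 0 from funext hv, Matrix.zero_vecMul, map_zero,
    add_zero]

/-- A fixed anisotropic vector gives a commuting reflection. -/
theorem exists_comm_odd (hQ : (polarBilin Q).Nondegenerate) (hex : Nat.card F ≠ 2 ∨ finrank F V ≠ 4) {t : Quad.oG Q}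
    {v : V} (hv : t.1 v = v) (hQv : Q v ≠ 0) : ∃ c, c * t = t * c ∧ Quad.dickson hQ hex c = -1 := by
  refine ⟨Quad.rO hQv, ?_, Quad.dickson_rO hQ hex hQv⟩
  have h1 : t * Quad.rO hQv * t⁻¹ = Quad.rO hQv := by
    rw [Quad.conj_rO]; exact Quad.rO_congr _ _ hv
  exact (mul_inv_eq_iff_eq_mul.1 h1).symm

/-- Classes of involutions in the kernel of the Dickson invariant: the rank is even. -/
theorem card_classes_ker (hQ : (polarBilin Q).Nondegenerate) (hex : Nat.card F ≠ 2 ∨ finrank F V ≠ 4)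
    (hn : 1 ≤ finrank F V) (a b : ℕ)
    (hex₁ : ∀ i : Fin a, ∃ w : Fin (i.val + 1) → V, OFr Q 1 w)
    (hex₂ : ∀ i : Fin b, ∃ w : Fin (i.val + 1) ⊕ Fin (i.val + 1) → V, OFr Q 0 w)
    (hle₁ : ∀ (s : ℕ) (w : Fin s → V), OFr Q 1 w → s ≤ a)
    (hle₂ : ∀ (k : ℕ) (w : Fin k ⊕ Fin k → V), OFr Q 0 w → k ≤ b) (split : Fin b → Prop)
    (hns : ∀ i, ¬split i → ∀ w : Fin (i.val + 1) ⊕ Fin (i.val + 1) → V, OFr Q 0 w →
      ∃ v, (∀ j, polar Q v (w j) = 0) ∧ Q v ≠ 0)
    (hs : ∀ i, split i → ∀ w : Fin (i.val + 1) ⊕ Fin (i.val + 1) → V, OFr Q 0 w → ∀ g : Quad.oG Q,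
      Submodule.map (g.1 : V →ₗ[F] V) (Submodule.span F (Set.range w)) = Submodule.span F (Set.range w) →
        Quad.dickson hQ hex g = 1) :
    Nat.card {C : ConjClasses (Quad.dickson hQ hex).ker // ∃ g, ConjClasses.mk g = C ∧ orderOf g = 2} =
      a / 2 + b + Nat.card {i // split i} := by
  classical
  obtain ⟨rep, h2, hall, hinj, h₁, h₂⟩ := card_classes hQ a b hex₁ hex₂ hle₁ hle₂
  obtain ⟨v₀, hv₀⟩ := Quad.exists_aniso hQ hn
  let ι : Fin (a / 2) ⊕ Fin b → Fin a ⊕ Fin b := Sum.map (fun i => ⟨2 * i.val + 1, by omega⟩) id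
  have hι : Function.Injective ι :=
    (Sum.map_injective).2 ⟨fun i j h => Fin.ext (by simpa using h), fun _ _ h => h⟩
  have hδ : ∀ y, Quad.dickson hQ hex (rep y) =
      (-1 : ℤˣ) ^ finrank F (LinearMap.range (nil (ρ Q (rep y)))) := fun y => dickson_eq hQ hex _
  rw [card_invClasses_ker (T := Fin (a / 2) ⊕ Fin b) (Quad.dickson hQ hex) (rep ∘ ι) (Quad.rO hv₀)
    (Quad.dickson_rO hQ hex hv₀) (fun i => h2 _) ?_ ?_ (fun i j h => hι (hinj _ _ h)) (Sum.elim (fun _ => False) split)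
    ?_ ?_, Nat.card_sum, Nat.card_fin, Nat.card_fin]
  · congr 1
    exact Nat.card_congr
      { toFun := fun x => match x with
          | ⟨.inl _, h⟩ => h.elim
          | ⟨.inr i, h⟩ => ⟨i, h⟩
        invFun := fun i => ⟨.inr i.1, i.2⟩
        left_inv := fun x => match x with
          | ⟨.inl _, h⟩ => h.elim
          | ⟨.inr i, h⟩ => rfl
        right_inv := fun i => rfl }
  · rintro (i | i) <;> rw [Function.comp_apply, hδ]
    · show (-1 : ℤˣ) ^ finrank F (LinearMap.range (nil (ρ Q (rep (.inl ⟨2 * i.val + 1, _⟩))))) = 1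
      rw [(h₁ _).1]
      exact Even.neg_one_pow ⟨i.val + 1, by simp; ring⟩
    · show (-1 : ℤˣ) ^ finrank F (LinearMap.range (nil (ρ Q (rep (.inr i))))) = 1
      rw [(h₂ _).1]
      exact Even.neg_one_pow ⟨i.val + 1, by ring⟩
  · intro g hg hg1
    obtain ⟨y, hy⟩ := hall g hg
    obtain ⟨c, hc⟩ := isConj_iff.1 hy
    rw [← hc, map_mul, map_mul, map_inv, mul_inv_cancel_comm] at hg1
    rcases y with i | i
    · rw [hδ, (h₁ i).1] at hg1
      have hodd : i.val % 2 = 1 := by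
        by_contra h
        have : Odd (i.val + 1) := ⟨i.val / 2, by omega⟩
        rw [this.neg_one_pow] at hg1
        exact absurd hg1 (by decide)
      refine ⟨.inl ⟨i.val / 2, by omega⟩, ?_⟩
      show IsConj (rep (.inl _)) g
      convert hy using 4
      exact Fin.ext (by simp; omega)
    · exact ⟨.inr i, hy⟩
  · rintro (i | i) hi
    · obtain ⟨w, hw, hT⟩ := (h₁ ⟨2 * i.val + 1, by omega⟩).2
      exact exists_comm_odd hQ hex (t := rep (.inl ⟨2 * i.val + 1, by omega⟩)) (v := w 0)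
        (fix_of_perp hT fun j => hw.frame.orth 0 j) (by rw [hw.val]; exact one_ne_zero)
    · obtain ⟨w, hw, hT⟩ := (h₂ i).2
      obtain ⟨v, hv, hQv⟩ := hns i hi w hw
      exact exists_comm_odd hQ hex (t := rep (.inr i)) (fix_of_perp hT hv) hQv
  · rintro (i | i) hi c hc
    · exact hi.elim
    · obtain ⟨w, hw, hT⟩ := (h₂ i).2
      refine hs i hi w hw c ?_
      obtain ⟨A, -, hA⟩ := (comm_iff hQ (ρ_iso c) hw.frame (isUnit_J _) hT).1
        (by rw [← map_mul, ← map_mul]; exact congrArg (ρ Q) hc)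
      refine Submodule.eq_of_le_of_finrank_eq ?_ (LinearEquiv.finrank_map_eq _ _)
      rw [Submodule.map_span, Submodule.span_le]
      rintro _ ⟨_, ⟨j, rfl⟩, rfl⟩
      show ρ Q c (w j) ∈ _
      rw [hA j]
      exact comb_mem_span _ _

end Cfsg.Agent.CharTwoInvol.Orth
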