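import Mathlib
import Cfsg.Agent.CharTwoInvol.Types
import Cfsg.Agent.Classical.IsoStab

/-!
Involutions of `Sp_2m` over a finite field of characteristic two: classes and centraliser orders.
-/

set_option autoImplicit false
set_option linter.unusedSectionVars false

namespace Cfsg.Agent.CharTwoInvol.Sp

open Module Matrix
open Cfsg.Agent.Classical

variable {F : Type*} [Field F] [CharP F 2] {m : ℕ}

/-- The group of the form as acting maps. -/
noncomputable abbrev ρ (m : ℕ) (F : Type*) [Field F] :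
    Alt.isoGroup (sympB m F) →* ((Fin m ⊕ Fin m → F) ≃ₗ[F] (Fin m ⊕ Fin m → F)) :=
  (Alt.isoGroup (sympB m F)).subtype

theorem ρ_injective : Function.Injective (ρ m F) := Subtype.val_injective

theorem transitive {κ : Type*} [Fintype κ] {w w' : κ → Fin m ⊕ Fin m → F} (hw : IsFrame (sympB m F) w)
    (hw' : IsFrame (sympB m F) w') : ∃ g, (fun i => ρ m F g (w i)) = w' := by
  let e := (Fintype.equivFin κ).symm
  obtain ⟨A, hA⟩ := IsoStab.symp_transitive (s := w ∘ e) (t := w' ∘ e) (hw.indep.comp _ e.injective)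
    (hw'.indep.comp _ e.injective) (fun i j => (hw.orth _ _).trans (hw'.orth _ _).symm)
  refine ⟨spEquiv m F A, funext fun i => ?_⟩
  have := congrFun hA (e.symm i)
  simpa [IsoStab.move, Cfsg.spToMat, spEquiv_apply] using this

theorem frame_move {κ : Type*} [Fintype κ] {w : κ → Fin m ⊕ Fin m → F} (hw : IsFrame (sympB m F) w)
    (g : Alt.isoGroup (sympB m F)) : IsFrame (sympB m F) fun i => ρ m F g (w i) :=
  ⟨hw.indep.map' g.1.toLinearMap (LinearMap.ker_eq_bot.2 g.1.injective),
    fun i j => (g.2 _ _).trans (hw.orth i j)⟩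

theorem card_frames [Fintype F] {q : ℕ} (hF : Fintype.card F = q) {κ : Type*} [Fintype κ]
    (hk : Fintype.card κ ≤ m) :
    Nat.card {w : κ → Fin m ⊕ Fin m → F | IsFrame (sympB m F) w} =
      ∏ i ∈ Finset.range (Fintype.card κ), (q ^ (2 * m - i) - q ^ i) := by
  rw [← IsoStab.card_symp_frames hF hk]
  let e := Fintype.equivFin κ
  refine Nat.card_congr (Equiv.subtypeEquiv (Equiv.arrowCongr e (Equiv.refl _)) fun w => ?_)
  constructor
  · intro h
    exact ⟨h.indep.comp _ e.symm.injective, fun i j => (sympB_apply _ _).symm.trans (h.orth _ _)⟩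
  · rintro ⟨h1, h2⟩
    refine ⟨?_, fun i j => ?_⟩
    · have := h1.comp _ e.injective
      simpa [Function.comp_def, Equiv.arrowCongr] using this
    · have := h2 (e i) (e j)
      simpa [Equiv.arrowCongr, sympB_apply] using this

theorem card_le {κ : Type*} [Fintype κ] {w : κ → Fin m ⊕ Fin m → F} (hw : IsFrame (sympB m F) w) :
    Fintype.card κ ≤ m := by
  have hsub : Submodule.span F (Set.range w) ≤
      LinearMap.BilinForm.orthogonal (sympB m F) (Submodule.span F (Set.range w)) := by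
    refine Submodule.span_le.2 ?_
    rintro _ ⟨i, rfl⟩ n hn
    show sympB m F n (w i) = 0
    induction hn using Submodule.span_induction with
    | mem a ha => obtain ⟨j, rfl⟩ := ha; exact hw.orth j i
    | zero => simp
    | add a b _ _ pa pb => rw [map_add, LinearMap.add_apply, pa, pb, add_zero]
    | smul c a _ pa => rw [map_smul, LinearMap.smul_apply, pa, smul_zero]
  have h := Submodule.finrank_mono hsub
  rw [LinearMap.BilinForm.finrank_orthogonal sympB_nondeg, finrank_symp, finrank_span_eq_card hw.indep] at h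
  omega

/-- The rank of `t - 1` in the matrix group. -/
theorem rank_eq (t : Matrix.symplecticGroup (Fin m) F) :
    ((t : Matrix (Fin m ⊕ Fin m) (Fin m ⊕ Fin m) F) - 1).rank =
      finrank F (LinearMap.range (nil (ρ m F (spEquiv m F t)))) := by
  rw [Matrix.rank]
  have e : ((t : Matrix (Fin m ⊕ Fin m) (Fin m ⊕ Fin m) F) - 1).mulVecLin = nil (ρ m F (spEquiv m F t)) :=
    LinearMap.ext fun v => by
      rw [Matrix.mulVecLin_apply, Matrix.sub_mulVec, Matrix.one_mulVec, nil_apply]
      funext i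
      exact CharTwo.sub_eq_add _ _
  rw [e]

theorem centralizer_congr (t : Matrix.symplecticGroup (Fin m) F) :
    Nat.card ↥(Subgroup.centralizer ({t} : Set ↥(Matrix.symplecticGroup (Fin m) F))) =
      Nat.card {g : Alt.isoGroup (sympB m F) // g * spEquiv m F t = spEquiv m F t * g} := by
  refine Nat.card_congr ((spEquiv m F).toEquiv.subtypeEquiv fun g => ?_)
  rw [Subgroup.mem_centralizer_singleton_iff]
  change g * t = t * g ↔ spEquiv m F g * spEquiv m F t = spEquiv m F t * spEquiv m F g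
  rw [← map_mul, ← map_mul, (spEquiv m F).injective.eq_iff]

/-- The centraliser of a frame involution. -/
theorem card_centralizer [Fintype F] {q : ℕ} (hF : Fintype.card F = q) {κ : Type*} [Fintype κ] [DecidableEq κ]
    {M : Matrix κ κ F} (hM : IsUnit M) {w : κ → Fin m ⊕ Fin m → F} (hw : IsFrame (sympB m F) w)
    {x : Alt.isoGroup (sympB m F)} (h : IsT (sympB m F) (ρ m F x) w M) {s : ℕ} (hs : Fintype.card κ = s) :
    Nat.card {g : Alt.isoGroup (sympB m F) // g * x = x * g} =
      q ^ (s * (s + 1) / 2 + 2 * s * (m - s)) * Nat.card (MatIso M) *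
        (q ^ ((m - s) ^ 2) * ∏ i ∈ Finset.range (m - s), (q ^ (2 * (i + 1)) - 1)) := by
  subst hs
  have hk := card_le hw
  have key := card_centralizer_mul (ρ m F) ρ_injective (fun g => g.2) sympB_nondeg hw hM h
    {w' | IsFrame (sympB m F) w'} (fun w' => ⟨fun hw' => transitive hw hw', by
      rintro ⟨g, rfl⟩; exact frame_move hw g⟩) (fun A hA => ⟨?_, fun i j => ?_⟩)
  · rw [card_frames hF hk, Nat.card_congr (spEquiv m F).symm.toEquiv, card_symplecticGroup hF,
      ← IsoStab.prod_split q (hF ▸ Fintype.card_pos) _ m hk] at key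
    refine Nat.eq_of_mul_eq_mul_right (IsoStab.prod_pos q (hF ▸ Fintype.one_lt_card) hk) (key.trans ?_)
    ring
  · have hu : IsUnit A := by
      rw [Matrix.isUnit_iff_isUnit_det]
      have hd := congrArg Matrix.det hA
      rw [Matrix.det_mul, Matrix.det_mul, Matrix.det_transpose] at hd
      have hMd := (Matrix.isUnit_iff_isUnit_det M).1 hM
      refine isUnit_iff_ne_zero.2 fun h0 => hMd.ne_zero ?_
      rw [← hd, h0, mul_zero]
    exact (Matrix.linearIndependent_rows_iff_isUnit.2 hu).map' (comb w)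
      (LinearMap.ker_eq_bot.2 (comb_injective hw.indep))
  · have := congrFun (hw.pairMap_comb_zero (A i)) (α := _)
    rw [comb_apply w (A j), map_sum]
    exact Finset.sum_eq_zero fun l _ => by
      rw [map_smul, smul_eq_mul]
      exact mul_eq_zero_of_right _ (this l)

/-- A frame of any size up to `m`. -/
theorem exists_frame (κ : Type*) [Fintype κ] (hk : Fintype.card κ ≤ m) :
    ∃ w : κ → Fin m ⊕ Fin m → F, IsFrame (sympB m F) w := by
  classical
  let f : κ → Fin m ⊕ Fin m := fun i => .inl (Fin.castLE hk (Fintype.equivFin κ i))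
  have hf : Function.Injective f := fun a b h => by simpa [f] using h
  refine ⟨fun i => Pi.single (f i) 1, (Pi.linearIndependent_single_one (Fin m ⊕ Fin m) F).comp f hf, fun i j => ?_⟩
  rw [sympB_eq_sum]
  simp [f]

theorem card_classes [Fintype F] :
    Nat.card {C : ConjClasses ↥(Matrix.symplecticGroup (Fin m) F) //
      ∃ g : Matrix.symplecticGroup (Fin m) F, ConjClasses.mk g = C ∧ orderOf g = 2} = m + m / 2 := by
  classical
  have hA := sympB_isAlt (F := F) (m := m)
  have hB := sympB_nondeg (F := F) (m := m)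
  choose w₁ hw₁ using fun i : Fin m => exists_frame (F := F) (m := m) (Fin (i.val + 1)) (by rw [Fintype.card_fin]; omega)
  choose w₂ hw₂ using fun i : Fin (m / 2) =>
    exists_frame (F := F) (m := m) (Fin (i.val + 1) ⊕ Fin (i.val + 1)) (by rw [Fintype.card_sum, Fintype.card_fin]; omega)
  let rep : Fin m ⊕ Fin (m / 2) → Alt.isoGroup (sympB m F) := Sum.elim
    (fun i => ⟨mkT (w₁ i) 1 (hw₁ i), mkT_isometry hA _ Matrix.transpose_one _⟩)
    (fun i => ⟨mkT (w₂ i) _ (hw₂ i), mkT_isometry hA _ (J_transpose' (i.val + 1)) _⟩)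
  have h₁ : ∀ i, IsT (sympB m F) (ρ m F (rep (.inl i))) (w₁ i) 1 := fun i => isT_mkT _ _ (hw₁ i)
  have h₂ : ∀ i, IsT (sympB m F) (ρ m F (rep (.inr i))) (w₂ i) (Matrix.J (Fin (i.val + 1)) F) :=
    fun i => isT_mkT _ _ (hw₂ i)
  rw [card_invClasses_congr (spEquiv m F), card_invClasses rep ?_ ?_ (types_inj (ρ m F) hA hB (fun g => g.2) rep
    w₁ hw₁ h₁ w₂ hw₂ h₂), Nat.card_sum, Nat.card_fin, Nat.card_fin]
  · rintro (i | i)
    · refine orderOf_eq_two (ρ m F) ρ_injective (mkT_mul_self _ _ (hw₁ i)) (ne_one_of_finrank ?_)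
      rw [finrank_one hB (hw₁ i) (h₁ i), Fintype.card_fin]
      omega
    · refine orderOf_eq_two (ρ m F) ρ_injective (mkT_mul_self _ _ (hw₂ i)) (ne_one_of_finrank ?_)
      rw [finrank_J hB (hw₂ i) (h₂ i)]
      omega
  · intro t ht
    have ht2 := sq_of_orderOf (ρ m F) ht
    have ht1 : ρ m F t ≠ 1 := fun e => by
      rw [show t = 1 from ρ_injective (e.trans (map_one _).symm), orderOf_one] at ht
      omega
    have hr0 : finrank F (LinearMap.range (nil (ρ m F t))) ≠ 0 := fun h0 => ht1 (LinearEquiv.ext fun v => by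
      have hm : nil (ρ m F t) v ∈ LinearMap.range (nil (ρ m F t)) := LinearMap.mem_range_self _ _
      rw [Submodule.finrank_eq_zero.1 h0, Submodule.mem_bot, nil_apply] at hm
      show ρ m F t v = v
      rw [← add_zero (ρ m F t v), ← add_self' F v, ← add_assoc, hm, zero_add])
    by_cases hna : ∃ v, sympB m F v (ρ m F t v) ≠ 0
    · obtain ⟨w, hw, hT, -⟩ := exists_isT_one (t := ρ m F t) hA hB t.2 ht2 hna
      obtain ⟨r, hr⟩ : ∃ r, finrank F (LinearMap.range (nil (ρ m F t))) = r + 1 :=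
        Nat.exists_eq_succ_of_ne_zero hr0
      revert w
      rw [hr]
      intro w hw hT
      have hle := card_le hw
      rw [Fintype.card_fin] at hle
      refine ⟨.inl ⟨r, by omega⟩, ?_⟩
      obtain ⟨g, hg⟩ := transitive (hw₁ ⟨r, by omega⟩) hw
      refine isConj_iff.2 ⟨g, ρ_injective ?_⟩
      have h' := (h₁ ⟨r, by omega⟩).conj g.2
      rw [show (fun i => g.1 (w₁ ⟨r, by omega⟩ i)) = w from hg] at h'
      exact h'.eq hT
    · push Not at hna
      obtain ⟨k, w, hk, hw, hT, -⟩ := exists_isT_J (t := ρ m F t) hA hB t.2 ht2 hna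
      obtain ⟨r, rfl⟩ : ∃ r, k = r + 1 := Nat.exists_eq_succ_of_ne_zero (fun h0 => hr0 (by
        subst h0
        exact hk.symm))
      have hle := card_le hw
      rw [Fintype.card_sum, Fintype.card_fin] at hle
      refine ⟨.inr ⟨r, by omega⟩, ?_⟩
      obtain ⟨g, hg⟩ := transitive (hw₂ ⟨r, by omega⟩) hw
      refine isConj_iff.2 ⟨g, ρ_injective ?_⟩
      have h' := (h₂ ⟨r, by omega⟩).conj g.2
      rw [show (fun i => g.1 (w₂ ⟨r, by omega⟩ i)) = w from hg] at h'
      exact h'.eq hT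

/-- Centraliser order, non-alternating case. -/
theorem centralizer_one [Fintype F] {q : ℕ} (hF : Fintype.card F = q) {s : ℕ}
    (t : Matrix.symplecticGroup (Fin m) F) (ht : t ^ 2 = 1)
    (hs : ((t : Matrix (Fin m ⊕ Fin m) (Fin m ⊕ Fin m) F) - 1).rank = s)
    (hna : ∃ v : Fin m ⊕ Fin m → F,
      Cfsg.sympForm m F v ((t : Matrix (Fin m ⊕ Fin m) (Fin m ⊕ Fin m) F).mulVec v) ≠ 0) :
    s ≤ m ∧ 1 ≤ s ∧ Nat.card ↥(Subgroup.centralizer ({t} : Set ↥(Matrix.symplecticGroup (Fin m) F))) =
      q ^ (s * (s + 1) / 2 + 2 * s * (m - s)) * Nat.card (MatIso (1 : Matrix (Fin s) (Fin s) F)) *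
        (q ^ ((m - s) ^ 2) * ∏ i ∈ Finset.range (m - s), (q ^ (2 * (i + 1)) - 1)) := by
  rw [rank_eq] at hs
  obtain ⟨v, hv⟩ := hna
  have hna' : ∃ v, sympB m F v (ρ m F (spEquiv m F t) v) ≠ 0 := ⟨v, by rw [sympB_apply]; exact hv⟩
  obtain ⟨w, hw, hT, -⟩ := exists_isT_one (t := ρ m F (spEquiv m F t)) sympB_isAlt sympB_nondeg (spEquiv m F t).2
    (by rw [← map_mul, ← map_mul, ← pow_two, ht, map_one, map_one]) hna'
  revert w
  rw [hs]
  intro w hw hT
  have hle := card_le hw
  rw [Fintype.card_fin] at hle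
  refine ⟨hle, Nat.one_le_iff_ne_zero.2 fun h0 => ?_, ?_⟩
  · subst h0
    refine hv ?_
    rw [← sympB_apply, ← spEquiv_apply, show (spEquiv m F t).1 v = v by
      rw [show (spEquiv m F t).1 v = v + _ from hT.apply v]
      simp [invN_apply, comb_apply]]
    exact sympB_isAlt v
  · rw [centralizer_congr]
    exact card_centralizer hF isUnit_one hw hT (Fintype.card_fin s)

/-- Centraliser order, alternating case. -/
theorem centralizer_J [Fintype F] {q : ℕ} (hF : Fintype.card F = q) {s : ℕ}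
    (t : Matrix.symplecticGroup (Fin m) F) (ht : t ^ 2 = 1)
    (hs : ((t : Matrix (Fin m ⊕ Fin m) (Fin m ⊕ Fin m) F) - 1).rank = s)
    (halt : ∀ v : Fin m ⊕ Fin m → F,
      Cfsg.sympForm m F v ((t : Matrix (Fin m ⊕ Fin m) (Fin m ⊕ Fin m) F).mulVec v) = 0) :
    ∃ k, s = 2 * k ∧ s ≤ m ∧ Nat.card ↥(Subgroup.centralizer ({t} : Set ↥(Matrix.symplecticGroup (Fin m) F))) =
      q ^ (s * (s + 1) / 2 + 2 * s * (m - s)) * (q ^ (k ^ 2) * ∏ i ∈ Finset.range k, (q ^ (2 * (i + 1)) - 1)) *
        (q ^ ((m - s) ^ 2) * ∏ i ∈ Finset.range (m - s), (q ^ (2 * (i + 1)) - 1)) := by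
  rw [rank_eq] at hs
  obtain ⟨k, w, hk, hw, hT, -⟩ := exists_isT_J (t := ρ m F (spEquiv m F t)) sympB_isAlt sympB_nondeg (spEquiv m F t).2
    (by rw [← map_mul, ← map_mul, ← pow_two, ht, map_one, map_one])
    (fun v => by rw [sympB_apply]; exact halt v)
  have hs' : s = 2 * k := hs.symm.trans hk.symm
  have hc : Fintype.card (Fin k ⊕ Fin k) = s := by rw [hs']; simp [two_mul]
  refine ⟨k, hs', hc ▸ card_le hw, ?_⟩
  rw [centralizer_congr, ← card_matIso_J hF k]
  exact card_centralizer hF (isUnit_J k) hw hT hc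

end Cfsg.Agent.CharTwoInvol.Sp
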