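import Mathlib
import Cfsg.Agent.CharTwoInvol.Sp
import Cfsg.Agent.CharTwoInvol.Orth
import Cfsg.Agent.Classical.Linear2
import Cfsg.Agent.Classical.QuadTypes

/-!
Orthogonal subgroups of `Sp_2d` in characteristic two: which involutions are conjugate into `O(Q)`, and fixed point
free symplectic maps of odd prime order dividing `q ^ (2d) - 1`.
-/

set_option autoImplicit false
set_option linter.unusedSectionVars false

namespace Cfsg.Agent.CharTwoInvol.OrthInSp

open Module QuadraticMap Matrix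
open Cfsg.Agent.Classical

variable {F : Type*} [Field F] [Fintype F] [CharP F 2] {d : ℕ}

/-- A non-degenerate alternating space is isometric to the standard one. -/
theorem exists_sympEquiv {V : Type*} [AddCommGroup V] [Module F V] [FiniteDimensional F V]
    {B : LinearMap.BilinForm F V} (hA : B.IsAlt) (hB : B.Nondegenerate) (hV : finrank F V = 2 * d) :
    ∃ φ : V ≃ₗ[F] (Fin d ⊕ Fin d → F), ∀ x y, sympB d F (φ x) (φ y) = B x y := by
  obtain ⟨k, e, f, hb, hk⟩ := Alt.exists_sympBasis hA ⊤ (Alt.ndon_top hB)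
  rw [finrank_top, hV] at hk
  obtain rfl : k = d := by omega
  let b : Basis (Fin k ⊕ Fin k) F V := Basis.mk (hb.linearIndependent hA) hb.span
  refine ⟨b.equivFun, fun x y => ?_⟩
  have h : (sympB k F).comp b.equivFun.toLinearMap b.equivFun.toLinearMap = B := by
    refine LinearMap.BilinForm.ext_basis b fun i j => ?_
    rw [LinearMap.BilinForm.comp_apply, LinearEquiv.coe_coe, sympB_eq_sum]
    simp only [Basis.equivFun_apply, Basis.repr_self, Finsupp.single_eq_pi_single]
    simp only [b, Basis.coe_mk]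
    rcases i with i | i <;> rcases j with j | j <;> simp only [Sum.elim_inl, Sum.elim_inr]
    · simp [hb.ee]
    · simp [hb.ef, Pi.single_apply, CharTwo.neg_eq, eq_comm]
    · rw [alt_comm hA, hb.ef]; simp [Pi.single_apply, eq_comm]
    · simp [hb.ff]
  exact LinearMap.congr_fun (LinearMap.congr_fun h x) y

/-- A fixed point free symplectic map of order `r`. -/
theorem exists_fpf {r : ℕ} [Fact r.Prime] (hr2 : r ≠ 2) (hd : 1 ≤ d)
    (hdvd : r ∣ (Fintype.card F ^ d) ^ 2 - 1) :
    ∃ g : Alt.isoGroup (sympB d F), g ^ r = 1 ∧ ∀ v, g.1 v = v → v = 0 := by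
  classical
  have : NeZero d := ⟨by omega⟩
  let K := FiniteField.Extension F 2 d
  have : Fintype K := Fintype.ofFinite K
  have : CharP K 2 := charP_of_injective_algebraMap (algebraMap F K).injective 2
  have hK : Fintype.card K = Fintype.card F ^ d := by
    rw [← Nat.card_eq_fintype_card, FiniteField.natCard_extension, Nat.card_eq_fintype_card]
  have hdvd' : r ∣ Nat.card (Matrix.SpecialLinearGroup (Fin 2) K) := by
    rw [Classical.card_sl2, hK]
    exact Dvd.dvd.mul_left hdvd _
  obtain ⟨A, hA⟩ := exists_prime_orderOf_dvd_card' r hdvd'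
  have hfix : ∀ x : Fin 2 → K, (A : Matrix (Fin 2) (Fin 2) K) *ᵥ x = x → x = 0 := by
    intro x hx
    by_contra hx0
    have hdet : ((A : Matrix (Fin 2) (Fin 2) K) - 1).det = 0 :=
      Matrix.exists_mulVec_eq_zero_iff.1 ⟨x, hx0, by rw [Matrix.sub_mulVec, hx, Matrix.one_mulVec, sub_self]⟩
    have h1 := A.det_coe
    rw [Matrix.det_fin_two] at h1 hdet
    simp only [Matrix.sub_apply, Matrix.one_apply_eq, Matrix.one_apply_ne (show (0 : Fin 2) ≠ 1 by decide),
      Matrix.one_apply_ne (show (1 : Fin 2) ≠ 0 by decide), sub_zero] at hdet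
    have htr : (A : Matrix (Fin 2) (Fin 2) K) 0 0 + (A : Matrix (Fin 2) (Fin 2) K) 1 1 = 0 := by
      linear_combination -hdet + h1 + (CharTwo.two_eq_zero : (2 : K) = 0)
    have h2 : (2 : K) = 0 := CharTwo.two_eq_zero
    have hsq : A ^ 2 = 1 := by
      refine Subtype.ext ?_
      rw [pow_two, Matrix.SpecialLinearGroup.coe_mul, Matrix.SpecialLinearGroup.coe_one]
      ext i j
      fin_cases i <;> fin_cases j <;> simp [Matrix.mul_apply, Fin.sum_univ_two]
      · linear_combination (A : Matrix (Fin 2) (Fin 2) K) 0 0 * htr - h1 - h2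
      · linear_combination (A : Matrix (Fin 2) (Fin 2) K) 0 1 * htr
      · linear_combination (A : Matrix (Fin 2) (Fin 2) K) 1 0 * htr
      · linear_combination (A : Matrix (Fin 2) (Fin 2) K) 1 1 * htr - h1 - h2
    have hle := Nat.le_of_dvd two_pos (orderOf_dvd_of_pow_eq_one hsq)
    rw [hA] at hle
    have := (Fact.out : r.Prime).two_le
    omega
  let B : LinearMap.BilinForm F (Fin 2 → K) := LinearMap.mk₂ F
    (fun x y => Algebra.trace F K (x 0 * y 1 - x 1 * y 0))
    (fun x y w => by simp [add_mul]; abel)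
    (fun c x y => by simp [Algebra.smul_mul_assoc, mul_sub])
    (fun x y w => by simp [mul_add]; abel)
    (fun c x y => by simp [Algebra.mul_smul_comm, mul_sub])
  have hB : ∀ x y, B x y = Algebra.trace F K (x 0 * y 1 - x 1 * y 0) := fun x y => rfl
  have hAlt : B.IsAlt := fun x => by rw [hB, mul_comm, sub_self, map_zero]
  have hN : B.Nondegenerate := (hAlt.isRefl.nondegenerate_iff_separatingLeft).2 fun x hx => by
    have h0 : x 0 = 0 := (traceForm_nondegenerate F K).1 (x 0) fun y => by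
      simpa [hB, Algebra.traceForm_apply] using hx ![0, y]
    have h1 : x 1 = 0 := (traceForm_nondegenerate F K).1 (x 1) fun y => by
      simpa [hB, Algebra.traceForm_apply] using hx ![y, 0]
    funext i
    fin_cases i
    · exact h0
    · exact h1
  have hV : finrank F (Fin 2 → K) = 2 * d := by
    rw [Module.finrank_pi_fintype, Fin.sum_univ_two, FiniteField.finrank_extension]
    omega
  obtain ⟨φ, hφ⟩ := exists_sympEquiv hAlt hN hV
  let a : (Fin 2 → K) ≃ₗ[F] (Fin 2 → K) := ((Matrix.SpecialLinearGroup.toLin' A).restrictScalars F)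
  have ha : ∀ x, a x = (A : Matrix (Fin 2) (Fin 2) K) *ᵥ x := fun x => rfl
  let g : (Fin d ⊕ Fin d → F) ≃ₗ[F] (Fin d ⊕ Fin d → F) := (φ.symm.trans a).trans φ
  have hg : g ∈ Alt.isoGroup (sympB d F) := fun x y => by
    obtain ⟨x, rfl⟩ := φ.surjective x
    obtain ⟨y, rfl⟩ := φ.surjective y
    show sympB d F (φ (a (φ.symm (φ x)))) (φ (a (φ.symm (φ y)))) = sympB d F (φ x) (φ y)
    rw [LinearEquiv.symm_apply_apply, LinearEquiv.symm_apply_apply, hφ, hφ, hB, hB, ha, ha]
    congr 1
    have h1 := A.det_coe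
    rw [Matrix.det_fin_two] at h1
    simp only [Matrix.mulVec, dotProduct, Fin.sum_univ_two]
    linear_combination (x 0 * y 1 - x 1 * y 0) * h1
  have hpow : ∀ (n : ℕ) (x : Fin 2 → K), (g ^ n) (φ x) = φ (((A ^ n : Matrix.SpecialLinearGroup (Fin 2) K) :
      Matrix (Fin 2) (Fin 2) K) *ᵥ x) := by
    intro n
    induction n with
    | zero => intro x; simp
    | succ n ih =>
      intro x
      rw [pow_succ', LinearEquiv.mul_apply, ih, pow_succ', Matrix.SpecialLinearGroup.coe_mul, ← Matrix.mulVec_mulVec]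
      show φ (a (φ.symm (φ _))) = _
      rw [LinearEquiv.symm_apply_apply, ha]
  refine ⟨⟨g, hg⟩, Subtype.ext (LinearEquiv.ext fun v => ?_), fun v hv => ?_⟩
  · obtain ⟨x, rfl⟩ := φ.surjective v
    show (g ^ r) (φ x) = φ x
    rw [hpow, ← hA, pow_orderOf_eq_one, Matrix.SpecialLinearGroup.coe_one, Matrix.one_mulVec]
  · obtain ⟨x, rfl⟩ := φ.surjective v
    have h' : g (φ x) = φ x := hv
    have := hpow 1 x
    rw [pow_one, pow_one, h', φ.injective.eq_iff] at this
    rw [hfix x this.symm, map_zero]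

section forms

variable {V : Type*} [AddCommGroup V] [Module F V] [FiniteDimensional F V] {Q : QuadraticForm F V}

/-- Every form has a totally singular subspace of dimension one below half. -/
theorem exists_singular_pred (hQ : (polarBilin Q).Nondegenerate) (hV : finrank F V = 2 * d) :
    ∃ U : Submodule F V, (∀ u ∈ U, Q u = 0) ∧ d - 1 ≤ finrank F U := by
  rcases Quad.even_cases hQ hV with h | ⟨-, h⟩
  · obtain ⟨e, he⟩ := h
    refine ⟨(Quad.stdSing (Fin 0 → F) d).map e.toLinearMap, ?_, ?_⟩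
    · rintro _ ⟨x, hx, rfl⟩
      rw [LinearEquiv.coe_coe, he]
      exact Quad.stdSing_singular _ d x hx
    · rw [LinearEquiv.finrank_map_eq, Quad.finrank_stdSing]
      omega
  · obtain ⟨ζ, hζ⟩ := Quad.exists_rootfree (F := F)
    obtain ⟨e, he⟩ := h _ _ (Quad.rootfree_aniso hζ)
    refine ⟨(Quad.stdSing (F × F) (d - 1)).map e.toLinearMap, ?_, ?_⟩
    · rintro _ ⟨x, hx, rfl⟩
      rw [LinearEquiv.coe_coe, he]
      exact Quad.stdSing_singular _ (d - 1) x hx
    · rw [LinearEquiv.finrank_map_eq, Quad.finrank_stdSing]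

theorem exists_zero_of_sub {U : Submodule F V} (hU : ∀ u ∈ U, Q u = 0) {κ : Type*} [Fintype κ]
    (hk : Fintype.card κ ≤ finrank F U) : ∃ w : κ → V, Orth.OFr Q 0 w := by
  let b := Module.finBasis F U
  let f : κ → Fin (finrank F U) := fun i => Fin.castLE hk (Fintype.equivFin κ i)
  have hf : Function.Injective f := fun x y h => by simpa [f] using h
  refine ⟨fun i => (b (f i) : V), ⟨(b.linearIndependent.comp f hf).map' U.subtype U.ker_subtype, fun i j => ?_⟩,
    fun i => hU _ (b (f i)).2⟩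
  rw [polarBilin_apply_apply, polar, hU _ (U.add_mem (b (f i)).2 (b (f j)).2), hU _ (b (f i)).2, hU _ (b (f j)).2]
  ring

theorem exists_one_of_sub (hQ : (polarBilin Q).Nondegenerate) (hV : finrank F V = 2 * d) {U : Submodule F V}
    (hU : ∀ u ∈ U, Q u = 0) {r : ℕ} (hr : r ≤ finrank F U) (hrd : r < d) :
    ∃ w : Fin (r + 1) → V, Orth.OFr Q 1 w := by
  obtain ⟨u, hu⟩ := exists_zero_of_sub hU (κ := Fin r) (by rwa [Fintype.card_fin])
  obtain ⟨v, hv, hQv⟩ : ∃ v, (∀ i, polar Q (u i) v = 0) ∧ Q v ≠ 0 := by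
    by_contra hc
    push Not at hc
    have h := Quad.two_mul_finrank_le hQ
      (W := LinearMap.BilinForm.orthogonal (polarBilin Q) (Submodule.span F (Set.range u))) fun x hx =>
        hc x fun i => hx (u i) (Submodule.subset_span ⟨i, rfl⟩)
    rw [LinearMap.BilinForm.finrank_orthogonal hQ, finrank_span_eq_card hu.frame.indep, Fintype.card_fin, hV] at h
    omega
  obtain ⟨c, hc⟩ := FiniteField.isSquare_of_char_two (ringChar.eq F 2) (Q v)⁻¹
  refine ⟨_, Orth.ofr_snoc hu (z := c • v) (fun i => ?_) ?_⟩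
  · rw [polar_smul_right, hv, smul_zero]
  · rw [Quad.map_smul', ← hc, inv_mul_cancel₀ hQv]

end forms

variable {Q : QuadraticForm F (Fin d ⊕ Fin d → F)}

theorem nondeg (hQf : polarBilin Q = sympB d F) : (polarBilin Q).Nondegenerate := hQf ▸ sympB_nondeg

/-- Conjugation into `O(Q)` of a non-trivial involution. -/
theorem exists_conj_mem (hQf : polarBilin Q = sympB d F) {U : Submodule F (Fin d ⊕ Fin d → F)}
    (hU : ∀ u ∈ U, Q u = 0) (hU1 : d - 1 ≤ finrank F U) (hU2 : Even d → finrank F U = d)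
    (t : Alt.isoGroup (sympB d F)) (ht : t ^ 2 = 1) (ht1 : t ≠ 1) :
    ∃ g : Alt.isoGroup (sympB d F), ∀ v, Q ((g * t * g⁻¹).1 v) = Q v := by
  have hQ := nondeg hQf
  have ht2 : t.1 * t.1 = 1 := congrArg Subtype.val ((pow_two t).symm.trans ht)
  by_cases hna : ∃ v, sympB d F v (t.1 v) ≠ 0
  · obtain ⟨w, hw, hT, -⟩ := exists_isT_one sympB_isAlt sympB_nondeg t.2 ht2 hna
    have hle := Sp.card_le hw
    rw [Fintype.card_fin] at hle
    obtain ⟨s, hs⟩ : ∃ s, finrank F (LinearMap.range (nil t.1)) = s := ⟨_, rfl⟩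
    revert w
    rw [hs] at hle ⊢
    intro w hw hT
    rcases s with _ | r
    · refine absurd (Subtype.ext (LinearEquiv.ext fun v => ?_)) ht1
      rw [hT.apply, invN_apply, comb_apply]
      simp
    obtain ⟨w', hw'⟩ := exists_one_of_sub hQ finrank_symp hU (r := r) (by omega) (by omega)
    obtain ⟨g, hg⟩ := Sp.transitive hw (w' := w') (hQf ▸ hw'.frame)
    refine ⟨g, fun v => ?_⟩
    have h' := hT.conj g.2
    rw [show (fun i => g.1 (w i)) = w' from hg] at h'
    have e : (g * t * g⁻¹).1 = mkT w' 1 hw'.frame := h'.eq (hQf ▸ isT_mkT w' 1 hw'.frame)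
    rw [e]
    exact Orth.mkT_one_mem hw' v
  · push Not at hna
    obtain ⟨k, w, hk, hw, hT, -⟩ := exists_isT_J sympB_isAlt sympB_nondeg t.2 ht2 hna
    have hle := Sp.card_le hw
    rw [Fintype.card_sum, Fintype.card_fin] at hle
    obtain ⟨w', hw'⟩ := exists_zero_of_sub hU (κ := Fin k ⊕ Fin k) (by
      rw [Fintype.card_sum, Fintype.card_fin]
      rcases Nat.even_or_odd d with he | ho
      · have := hU2 he; omega
      · obtain ⟨j, hj⟩ := ho; omega)
    obtain ⟨g, hg⟩ := Sp.transitive hw (w' := w') (hQf ▸ hw'.frame)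
    refine ⟨g, fun v => ?_⟩
    have h' := hT.conj g.2
    rw [show (fun i => g.1 (w i)) = w' from hg] at h'
    have e : (g * t * g⁻¹).1 = mkT w' (Matrix.J (Fin k) F) hw'.frame :=
      h'.eq (hQf ▸ isT_mkT w' (Matrix.J (Fin k) F) hw'.frame)
    rw [e]
    exact Orth.mkT_J_mem hw' v

/-- An involution with no conjugate in `O(Q)`: `d` even, no totally singular subspace of dimension `d`. -/
theorem exists_derangement (hQf : polarBilin Q = sympB d F) (hd : 1 ≤ d) (he : Even d)
    (hno : ∀ U : Submodule F (Fin d ⊕ Fin d → F), (∀ u ∈ U, Q u = 0) → finrank F U ≠ d) :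
    ∃ t : Alt.isoGroup (sympB d F), t ^ 2 = 1 ∧ t ≠ 1 ∧ ∀ g : Alt.isoGroup (sympB d F),
      ¬ ∀ v, Q ((g * t * g⁻¹).1 v) = Q v := by
  have hQ := nondeg hQf
  obtain ⟨k, rfl⟩ := he
  obtain ⟨w, hw⟩ := Sp.exists_frame (F := F) (m := k + k) (Fin k ⊕ Fin k) (by simp)
  let t : Alt.isoGroup (sympB (k + k) F) :=
    ⟨mkT w _ hw, mkT_isometry sympB_isAlt _ (J_transpose' k) _⟩
  have hT : IsT (sympB (k + k) F) t.1 w (Matrix.J (Fin k) F) := isT_mkT _ _ hw
  refine ⟨t, Subtype.ext (by rw [pow_two]; exact mkT_mul_self _ _ hw), fun e => ?_, fun g hg => ?_⟩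
  · have h := finrank_J sympB_nondeg hw hT
    rw [e, show ((1 : Alt.isoGroup (sympB (k + k) F)).1) = 1 from rfl, nil_one, LinearMap.range_zero, finrank_bot] at h
    omega
  · let x : Quad.oG Q := ⟨(g * t * g⁻¹).1, hg⟩
    have hx2 : Orth.ρ Q x * Orth.ρ Q x = 1 := by
      show (g * t * g⁻¹).1 * (g * t * g⁻¹).1 = 1
      have htt : t * t = 1 := Subtype.ext (mkT_mul_self _ _ hw)
      rw [← Subgroup.coe_mul, show g * t * g⁻¹ * (g * t * g⁻¹) = g * (t * t) * g⁻¹ by group, htt]
      simp
    have halt : ∀ v, polarBilin Q v (Orth.ρ Q x v) = 0 := by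
      rw [hQf]
      exact (conj_alt_iff (t := t.1) g.2).2 (alt_J sympB_isAlt hT)
    obtain ⟨j, u, hj, hu, -⟩ := Orth.normal_J hQ x hx2 halt
    refine hno (Submodule.span F (Set.range u)) (fun y hy => ?_) ?_
    · rw [← range_comb] at hy
      obtain ⟨a, rfl⟩ := hy
      rw [Orth.quad_comb hu, mul_zero]
    · rw [finrank_span_eq_card hu.frame.indep, Fintype.card_sum, Fintype.card_fin]
      have hr : finrank F (LinearMap.range (nil (g * t * g⁻¹).1)) = 2 * k :=
        (conj_finrank_nil g.1 t.1).trans (finrank_J sympB_nondeg hw hT)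
      rw [show Orth.ρ Q x = (g * t * g⁻¹).1 from rfl, hr] at hj
      omega

end Cfsg.Agent.CharTwoInvol.OrthInSp
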