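import Mathlib
import Cfsg.Agent.CharTwoInvol.Orth

/-!
Frames in the hyperbolic space in characteristic two, their numbers, and centraliser orders of involutions.
-/

set_option autoImplicit false
set_option linter.unusedSectionVars false

namespace Cfsg.Agent.CharTwoInvol.Orth

open Module Matrix QuadraticMap
open Cfsg.Agent.Classical

variable {F : Type*} [Field F] [CharP F 2] {m : ℕ}

/-- Singular frames of any size up to `m`. -/
theorem exists_zero_plus {κ : Type*} [Fintype κ] (hk : Fintype.card κ ≤ m) :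
    ∃ w : κ → Fin m ⊕ Fin m → F, OFr (Quad.plusQ F m) 0 w := by
  classical
  let f : κ → Fin m ⊕ Fin m := fun i => .inl (Fin.castLE hk (Fintype.equivFin κ i))
  have hf : Function.Injective f := fun a b h => by simpa [f] using h
  refine ⟨fun i => Pi.single (f i) 1, ⟨(Pi.linearIndependent_single_one (Fin m ⊕ Fin m) F).comp f hf, fun i j => ?_⟩,
    fun i => Quad.plusQ_single _⟩
  rw [polarBilin_apply_apply]
  exact (Quad.polar_single_plus _ _).1

theorem exists_one_plus {r : ℕ} (hr : r < m) : ∃ w : Fin (r + 1) → Fin m ⊕ Fin m → F, OFr (Quad.plusQ F m) 1 w := by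
  have hu : OFr (Quad.plusQ F m) 0 (fun i : Fin r => Pi.single (.inl (Fin.castLE hr.le i)) (1 : F)) := by
    refine ⟨⟨(Pi.linearIndependent_single_one (Fin m ⊕ Fin m) F).comp _ fun a b h => by simpa using h,
      fun i j => ?_⟩, fun i => Quad.plusQ_single _⟩
    rw [polarBilin_apply_apply]
    exact (Quad.polar_single_plus _ _).1
  refine ⟨_, ofr_snoc hu (z := Pi.single (.inl ⟨r, hr⟩) 1 + Pi.single (.inr ⟨r, hr⟩) 1) (fun i => ?_) ?_⟩
  · rw [polar_add_right, (Quad.polar_single_plus _ _).1, (Quad.polar_single_plus _ _).2.2, zero_add,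
      if_neg fun h => ?_]
    have := congrArg Fin.val h
    simp at this
    omega
  · rw [Quad.map_add', Quad.plusQ_single, Quad.plusQ_single, (Quad.polar_single_plus _ _).2.2, if_pos rfl, zero_add,
      zero_add]

theorem plus_index_le (U : Submodule F (Fin m ⊕ Fin m → F)) (hU : ∀ u ∈ U, Quad.plusQ F m u = 0) :
    finrank F U ≤ m :=
  (Quad.plus_index m).2 U fun u hu => (congrFun Quad.coe_plusQ u).symm.trans (hU u hu)

theorem one_le_plus (s : ℕ) (w : Fin s → Fin m ⊕ Fin m → F) (hw : OFr (Quad.plusQ F m) 1 w) : s ≤ m := by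
  have := size_le Quad.nondeg_plusQ hw
  rw [Quad.finrank_plus, Fintype.card_fin] at this
  omega

theorem zero_le_plus (k : ℕ) (w : Fin k ⊕ Fin k → Fin m ⊕ Fin m → F) (hw : OFr (Quad.plusQ F m) 0 w) :
    k ≤ m / 2 := by
  have := size_le_index plus_index_le hw
  rw [Fintype.card_sum, Fintype.card_fin] at this
  omega

/-- The number of vectors of value `c` orthogonal to a singular frame. -/
theorem card_perp_value [Finite F] (c : F) {r n : ℕ} (hm : r + n = m) {u : Fin r → Fin m ⊕ Fin m → F}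
    (hu : OFr (Quad.plusQ F m) 0 u) :
    Nat.card {z : Fin m ⊕ Fin m → F // (∀ i, polar (Quad.plusQ F m) (u i) z = 0) ∧ Quad.plusQ F m z = c} =
      Nat.card F ^ r * Nat.card {x : Fin n ⊕ Fin n → F // Quad.plusQ F n x = c} := by
  subst hm
  let e : Fin r → Fin (r + n) ⊕ Fin (r + n) → F := fun i => Pi.single (.inl (Fin.castAdd n i)) 1
  have he : OFr (Quad.plusQ F (r + n)) 0 e := by
    refine ⟨⟨(Pi.linearIndependent_single_one (Fin (r + n) ⊕ Fin (r + n)) F).comp _ fun a b h => by simpa using h,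
      fun i j => ?_⟩, fun i => Quad.plusQ_single _⟩
    rw [polarBilin_apply_apply]
    exact (Quad.polar_single_plus _ _).1
  obtain ⟨g, hg⟩ := transitive Quad.nondeg_plusQ he hu
  have hpe : ∀ i (z : Fin (r + n) ⊕ Fin (r + n) → F),
      polar (Quad.plusQ F (r + n)) (e i) z = z (.inr (Fin.castAdd n i)) := fun i z => by
    simp [Quad.polar_plusQ, e, Pi.single_apply]
  have step : Nat.card {z : Fin (r + n) ⊕ Fin (r + n) → F //
        (∀ i, polar (Quad.plusQ F (r + n)) (u i) z = 0) ∧ Quad.plusQ F (r + n) z = c} =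
      Nat.card {z : Fin (r + n) ⊕ Fin (r + n) → F //
        (∀ i, z (.inr (Fin.castAdd n i)) = 0) ∧ Quad.plusQ F (r + n) z = c} := by
    refine (Nat.card_congr (g.1.toEquiv.subtypeEquiv fun z => ?_)).symm
    refine and_congr (forall_congr' fun i => ?_) (Eq.congr_left (g.2 z).symm)
    rw [← congrFun hg i, ← hpe i z]
    exact Eq.congr_left (Quad.polar_oG g _ _).symm
  have hsum : ∀ z : Fin (r + n) ⊕ Fin (r + n) → F, (∀ i, z (.inr (Fin.castAdd n i)) = 0) →
      Quad.plusQ F (r + n) z = Quad.plusQ F n (fun x => z (x.map (Fin.natAdd r) (Fin.natAdd r))) := fun z hz => by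
    rw [Quad.plusQ_apply, Quad.plusQ_apply, Fin.sum_univ_add]
    simp [hz]
  rw [step, ← Nat.card_fin r, ← Nat.card_fun, Nat.card_fin, ← Nat.card_prod]
  refine Nat.card_congr
    { toFun := fun z => (fun i => z.1 (.inl (Fin.castAdd n i)),
        ⟨fun x => z.1 (x.map (Fin.natAdd r) (Fin.natAdd r)), (hsum z.1 z.2.1).symm.trans z.2.2⟩)
      invFun := fun p => ⟨Sum.elim (Fin.append p.1 (fun i => p.2.1 (.inl i))) (Fin.append 0 (fun i => p.2.1 (.inr i))),
        fun i => by simp, ?_⟩
      left_inv := fun z => Subtype.ext (funext fun x => ?_)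
      right_inv := fun p => Prod.ext (funext fun i => by simp)
        (Subtype.ext (funext fun x => by rcases x with i | i <;> simp)) }
  · rw [hsum _ (fun i => by simp)]
    refine Eq.trans ?_ p.2.2
    congr 1
    funext x
    rcases x with i | i <;> simp
  · rcases x with i | i <;> refine Fin.addCases (fun i => ?_) (fun i => ?_) i
    · simp
    · simp
    · simp [z.2.1]
    · simp

variable [Fintype F] {q : ℕ}

theorem card_value_zero (hF : Fintype.card F = q) (d : ℕ) :
    Nat.card {x : Fin (d + 1) ⊕ Fin (d + 1) → F // Quad.plusQ F (d + 1) x = 0} + q ^ d =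
      q ^ (2 * d + 1) + q ^ (d + 1) := by
  rw [← Quad.zcard_plus hF d, ← Quad.card_zeros_eq (Quad.plusCoord (d + 1)) (Quad.plusCoord_map (d + 1)),
    Quad.coe_plusQ]

theorem card_value_one (hF : Fintype.card F = q) (d : ℕ) :
    Nat.card {x : Fin (d + 1) ⊕ Fin (d + 1) → F // Quad.plusQ F (d + 1) x = 1} = q ^ d * (q ^ (d + 1) - 1) := by
  classical
  let Q := Quad.plusQ F (d + 1)
  have hroot : ∀ c : F, ∃ s : F, s * s = c := fun c => by
    obtain ⟨s, hs⟩ := FiniteField.isSquare_of_char_two (ringChar.eq F 2) c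
    exact ⟨s, hs.symm⟩
  choose rt hrt using hroot
  have hrt0 : ∀ c : F, c ≠ 0 → rt c ≠ 0 := fun c hc h => hc (by rw [← hrt c, h, mul_zero])
  have e : {x : Fin (d + 1) ⊕ Fin (d + 1) → F // Q x ≠ 0} ≃
      {c : F // c ≠ 0} × {x : Fin (d + 1) ⊕ Fin (d + 1) → F // Q x = 1} :=
    { toFun := fun x => (⟨Q x.1, x.2⟩, ⟨(rt (Q x.1))⁻¹ • x.1, by
        rw [Quad.map_smul', ← mul_inv, hrt, inv_mul_cancel₀ x.2]⟩)
      invFun := fun p => ⟨rt p.1.1 • p.2.1, by
        rw [Quad.map_smul', hrt, p.2.2, mul_one]; exact p.1.2⟩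
      left_inv := fun x => Subtype.ext (by
        show rt (Q x.1) • (rt (Q x.1))⁻¹ • x.1 = x.1
        rw [smul_smul, mul_inv_cancel₀ (hrt0 _ x.2), one_smul])
      right_inv := fun p => by
        have hp : Q (rt p.1.1 • p.2.1) = p.1.1 := by rw [Quad.map_smul', hrt, p.2.2, mul_one]
        refine Prod.ext (Subtype.ext hp) (Subtype.ext ?_)
        show (rt (Q (rt p.1.1 • p.2.1)))⁻¹ • rt p.1.1 • p.2.1 = p.2.1
        rw [hp, smul_smul, inv_mul_cancel₀ (hrt0 _ p.1.2), one_smul] }
  have h1 := Nat.card_congr e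
  rw [Nat.card_prod, Nat.card_eq_fintype_card, Fintype.card_subtype_compl, ← Nat.card_eq_fintype_card,
    ← Nat.card_eq_fintype_card, Nat.card_eq_fintype_card (α := {c : F // c ≠ 0}), Fintype.card_subtype_compl,
    Fintype.card_subtype_eq, hF, Nat.card_eq_fintype_card (α := Fin (d + 1) ⊕ Fin (d + 1) → F), Fintype.card_pi,
    Finset.prod_const, Finset.card_univ, hF, Fintype.card_sum, Fintype.card_fin] at h1
  have hq : 2 ≤ q := hF ▸ Fintype.one_lt_card
  have hz := card_value_zero hF d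
  obtain ⟨r, hr⟩ := Nat.exists_eq_add_of_le (Nat.one_le_pow (d + 1) q (by omega))
  obtain ⟨s, hs⟩ : ∃ s, q = s + 1 := ⟨q - 1, by omega⟩
  have key : q ^ (d + 1 + (d + 1)) = q ^ d * r * s + Nat.card {x : Fin (d + 1) ⊕ Fin (d + 1) → F // Q x = 0} := by
    refine Nat.add_right_cancel (m := q ^ d) ?_
    have hz' : Nat.card {x : Fin (d + 1) ⊕ Fin (d + 1) → F // Q x = 0} + q ^ d = q ^ d * (1 + r) + (1 + r) := by
      rw [← hr, ← pow_add]
      exact hz.trans (by rw [show d + (d + 1) = 2 * d + 1 by omega])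
    have hP : q ^ d * (s + 1) = 1 + r := by rw [← hs, ← pow_succ, hr]
    rw [pow_add, hr, add_assoc, hz']
    have h1 : (1 + r) * (1 + r) = (1 + r) + q ^ d * (s + 1) * r := by rw [hP]; ring
    rw [h1]
    ring
  rw [key, Nat.add_sub_cancel, hs, Nat.add_sub_cancel, mul_comm s] at h1
  rw [hr, Nat.add_sub_cancel_left, hs]
  exact (Nat.eq_of_mul_eq_mul_right (by omega) h1).symm

/-- The order of the orthogonal group of the hyperbolic form. -/
def oPlus (q : ℕ) : ℕ → ℕ
  | 0 => 1
  | k + 1 => 2 * q ^ ((k + 1) * k) * (q ^ (k + 1) - 1) * ∏ i ∈ Finset.range k, (q ^ (2 * (i + 1)) - 1)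

theorem card_oG_plusQ (hF : Fintype.card F = q) : ∀ m, Nat.card (Quad.oG (Quad.plusQ F m)) = oPlus q m
  | 0 => by
    rw [Nat.card_congr (Quad.oCongr (Q₁ := Quad.plusQ F 0) (Q₂ := Quad.hyp (Quad.zeroForm F) 0) (Quad.plusCoord 0)
      fun x => rfl).toEquiv, Quad.card_oG_hyp_zero, Quad.card_oG_zeroForm]
    rfl
  | k + 1 => by
    rw [Nat.card_congr (Quad.oCongr (Q₁ := Quad.plusQ F (k + 1)) (Q₂ := Quad.hyp (Quad.zeroForm F) (k + 1))
      (Quad.plusCoord (k + 1)) fun x => rfl).toEquiv, Quad.card_oG_plus hF k]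
    rfl

/-- The number of singular frames. -/
noncomputable def nFrames (F : Type*) [Field F] (m r : ℕ) : ℕ :=
  Nat.card {u : Fin r → Fin m ⊕ Fin m → F | OFr (Quad.plusQ F m) 0 u}

theorem oPlus_succ (hq : 1 ≤ q) (d : ℕ) :
    oPlus q (d + 1) = q ^ (2 * d) * ((q ^ (d + 1) - 1) * (q ^ d + 1)) * oPlus q d := by
  cases d with
  | zero => simp [oPlus]; ring
  | succ d =>
    simp only [oPlus]
    rw [Finset.prod_range_succ, Quad.sq_pow_sub_one]
    ring

theorem nFrames_spec (hF : Fintype.card F = q) : ∀ r d : ℕ, r + d = m →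
    Nat.card (Quad.oG (Quad.plusQ F m)) = nFrames F m r * q ^ (r * (r - 1) / 2 + 2 * r * d) * oPlus q d := by
  classical
  intro r
  induction r with
  | zero =>
    intro d hd
    have : Unique {u : Fin 0 → Fin m ⊕ Fin m → F | OFr (Quad.plusQ F m) 0 u} :=
      { default := ⟨Fin.elim0, ⟨linearIndependent_empty_type, fun i => i.elim0⟩, fun i => i.elim0⟩
        uniq := fun u => Subtype.ext (Subsingleton.elim _ _) }
    obtain rfl : d = m := by omega
    rw [nFrames, Nat.card_unique (α := {u : Fin 0 → Fin d ⊕ Fin d → F | OFr (Quad.plusQ F d) 0 u}), card_oG_plusQ hF]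
    simp
  | succ r ih =>
    intro d hd
    let T : {u : Fin r → Fin m ⊕ Fin m → F | OFr (Quad.plusQ F m) 0 u} → Set (Fin m ⊕ Fin m → F) := fun u =>
      {z | (∀ i, polar (Quad.plusQ F m) (u.1 i) z = 0) ∧ Quad.plusQ F m z = 0} \
        (Submodule.span F (Set.range u.1) : Set (Fin m ⊕ Fin m → F))
    let f : (Σ u, T u) → {u : Fin (r + 1) → Fin m ⊕ Fin m → F | OFr (Quad.plusQ F m) 0 u} := fun x =>
      ⟨Fin.snoc x.1.1 x.2.1, ⟨linearIndependent_finSnoc.2 ⟨x.1.2.frame.indep, x.2.2.2⟩, fun i j => by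
        refine Fin.lastCases ?_ (fun i => ?_) i <;> refine Fin.lastCases ?_ (fun j => ?_) j
        · simpa using isAlt_polar (Quad.plusQ F m) x.2.1
        · simpa [polar_comm] using x.2.2.1.1 j
        · simpa using x.2.2.1.1 i
        · simpa using x.1.2.frame.orth i j⟩, fun i => by
        refine Fin.lastCases ?_ (fun i => ?_) i
        · simpa using x.2.2.1.2
        · simpa using x.1.2.val i⟩
    have hf : Function.Bijective f := by
      constructor
      · rintro ⟨u, v⟩ ⟨u', v'⟩ e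
        have e' : Fin.snoc (α := fun _ => Fin m ⊕ Fin m → F) u.1 v.1 = Fin.snoc u'.1 v'.1 := congrArg Subtype.val e
        obtain rfl : u = u' := Subtype.ext (funext fun i => by simpa using congrFun e' i.castSucc)
        exact Sigma.ext rfl (heq_of_eq (Subtype.ext (by simpa using congrFun e' (Fin.last r))))
      · rintro ⟨w, hw⟩
        have hw' := hw.frame.indep
        rw [← Fin.snoc_init_self w] at hw'
        obtain ⟨-, h2⟩ := linearIndependent_finSnoc.1 hw'
        exact ⟨⟨⟨Fin.init w, hw.reindex _ (Fin.castSucc_injective r)⟩,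
          ⟨w (Fin.last r), ⟨fun i => hw.frame.orth _ _, hw.val _⟩, h2⟩⟩, Subtype.ext (Fin.snoc_init_self w)⟩
    have : Fintype {u : Fin r → Fin m ⊕ Fin m → F | OFr (Quad.plusQ F m) 0 u} := Fintype.ofFinite _
    have hT : ∀ u, Nat.card (T u) = q ^ r * ((q ^ (d + 1) - 1) * (q ^ d + 1)) := fun u => by
      have hsub : (Submodule.span F (Set.range u.1) : Set (Fin m ⊕ Fin m → F)) ⊆
          {z | (∀ i, polar (Quad.plusQ F m) (u.1 i) z = 0) ∧ Quad.plusQ F m z = 0} := by
        intro v hv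
        rw [SetLike.mem_coe, ← range_comb] at hv
        obtain ⟨a, rfl⟩ := hv
        refine ⟨fun i => ?_, by rw [quad_comb u.2, mul_zero]⟩
        rw [polar_comm]
        exact congrFun (u.2.frame.pairMap_comb_zero a) i
      rw [Nat.card_coe_set_eq, Set.ncard_sdiff hsub, ← Nat.card_coe_set_eq, ← Nat.card_coe_set_eq]
      show Nat.card {z // (∀ i, polar (Quad.plusQ F m) (u.1 i) z = 0) ∧ Quad.plusQ F m z = 0} -
        Nat.card (Submodule.span F (Set.range u.1)) = _
      rw [card_perp_value 0 (show r + (d + 1) = m by omega) u.2,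
        Module.natCard_eq_pow_finrank (K := F) (V := Submodule.span F (Set.range u.1)),
        finrank_span_eq_card u.2.frame.indep, Fintype.card_fin, Nat.card_eq_fintype_card (α := F), hF]
      have hz := card_value_zero hF d
      obtain ⟨x, hx⟩ := Nat.exists_eq_add_of_le (Nat.one_le_pow (d + 1) q (hF ▸ Fintype.card_pos))
      have hval : Nat.card {x : Fin (d + 1) ⊕ Fin (d + 1) → F // Quad.plusQ F (d + 1) x = 0} =
          1 + (q ^ (d + 1) - 1) * (q ^ d + 1) := by
        refine Nat.add_right_cancel (m := q ^ d) ?_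
        rw [hz, hx, Nat.add_sub_cancel_left, show 2 * d + 1 = (d + 1) + d by omega, pow_add, hx]
        ring
      rw [hval, Nat.mul_add, mul_one, Nat.add_sub_cancel_left]
    have hn : nFrames F m (r + 1) = nFrames F m r * (q ^ r * ((q ^ (d + 1) - 1) * (q ^ d + 1))) := by
      rw [nFrames, ← Nat.card_eq_of_bijective f hf, Nat.card_sigma,
        Finset.sum_const_nat (m := q ^ r * ((q ^ (d + 1) - 1) * (q ^ d + 1))) (fun u _ => hT u), Finset.card_univ,
        ← Nat.card_eq_fintype_card]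
      rfl
    rw [ih (d + 1) (by omega), hn, oPlus_succ (hF ▸ Fintype.card_pos)]
    have e4 : (r + 1) * (r + 1 - 1) / 2 = r * (r - 1) / 2 + r := by
      rw [← Nat.choose_two_right, ← Nat.choose_two_right, Nat.choose_succ_succ, Nat.choose_one_right, add_comm]
    rw [e4]
    ring

theorem nFrames_pos {r : ℕ} (hr : r ≤ m) : 0 < nFrames F m r := by
  obtain ⟨w, hw⟩ := exists_zero_plus (F := F) (κ := Fin r) (m := m) (by simpa using hr)
  exact @Nat.card_pos _ ⟨⟨w, hw⟩⟩ _

/-- The centraliser of an involution with a frame of value one. -/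
theorem card_comm_one (hF : Fintype.card F = q) {r d : ℕ} (hm : r + d + 1 = m) (x : Quad.oG (Quad.plusQ F m))
    {w : Fin (r + 1) → Fin m ⊕ Fin m → F} (hw : OFr (Quad.plusQ F m) 1 w)
    (hT : IsT (polarBilin (Quad.plusQ F m)) (ρ (Quad.plusQ F m) x) w 1) :
    Nat.card {g : Quad.oG (Quad.plusQ F m) // g * x = x * g} =
      2 * q ^ (r * (r - 1) / 2 + r * (2 * d + 1)) * Nat.card (MatIso (1 : Matrix (Fin (r + 1)) (Fin (r + 1)) F)) *
        (q ^ (d ^ 2) * ∏ i ∈ Finset.range d, (q ^ (2 * (i + 1)) - 1)) := by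
  classical
  have : Fintype {u : Fin r → Fin m ⊕ Fin m → F | OFr (Quad.plusQ F m) 0 u} := Fintype.ofFinite _
  have key := card_centralizer_mul (ρ (Quad.plusQ F m)) ρ_injective ρ_iso Quad.nondeg_plusQ hw.frame isUnit_one hT
    {w' | OFr (Quad.plusQ F m) 1 w'} (fun w' => ⟨fun hw' => transitive Quad.nondeg_plusQ hw hw', by
      rintro ⟨g, rfl⟩; exact move hw g⟩) (fun A hA => hmem_one hw A hA)
  rw [Nat.card_congr (ofrEquiv r), Nat.card_sigma,
    Finset.sum_const_nat (m := q ^ r * (q ^ d * (q ^ (d + 1) - 1))) (fun u _ => by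
      rw [card_perp_value 1 (show r + (d + 1) = m by omega) u.2, card_value_one hF, Nat.card_eq_fintype_card, hF]),
    Finset.card_univ, ← Nat.card_eq_fintype_card, nFrames_spec hF r (d + 1) (by omega)] at key
  have hq : 2 ≤ q := hF ▸ Fintype.one_lt_card
  have hpos : 0 < nFrames F m r * (q ^ r * (q ^ d * (q ^ (d + 1) - 1))) := by
    have h1 := nFrames_pos (F := F) (show r ≤ m by omega)
    have h2 : 0 < q ^ (d + 1) - 1 := Nat.sub_pos_of_lt (Nat.one_lt_pow (by omega) (by omega))
    positivity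
  refine Nat.eq_of_mul_eq_mul_right hpos (key.trans ?_)
  simp only [oPlus]
  rw [show r * (r - 1) / 2 + 2 * r * (d + 1) = r * (r - 1) / 2 + r * (2 * d + 1) + r by ring,
    show (d + 1) * d = d ^ 2 + d by ring]
  ring

/-- The centraliser of an involution with a singular frame. -/
theorem card_comm_zero (hF : Fintype.card F = q) {k d : ℕ} (hm : 2 * k + d = m) (x : Quad.oG (Quad.plusQ F m))
    {w : Fin k ⊕ Fin k → Fin m ⊕ Fin m → F} (hw : OFr (Quad.plusQ F m) 0 w)
    (hT : IsT (polarBilin (Quad.plusQ F m)) (ρ (Quad.plusQ F m) x) w (Matrix.J (Fin k) F)) :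
    Nat.card {g : Quad.oG (Quad.plusQ F m) // g * x = x * g} =
      q ^ (2 * k * (2 * k - 1) / 2 + 2 * (2 * k) * d) * (q ^ (k ^ 2) * ∏ i ∈ Finset.range k, (q ^ (2 * (i + 1)) - 1)) *
        oPlus q d := by
  classical
  have key := card_centralizer_mul (ρ (Quad.plusQ F m)) ρ_injective ρ_iso Quad.nondeg_plusQ hw.frame (isUnit_J k) hT
    {w' | OFr (Quad.plusQ F m) 0 w'} (fun w' => ⟨fun hw' => transitive Quad.nondeg_plusQ hw hw', by
      rintro ⟨g, rfl⟩; exact move hw g⟩) (fun A hA => hmem_J hw A hA)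
  let e : Fin k ⊕ Fin k ≃ Fin (2 * k) := finSumFinEquiv.trans (finCongr (by omega))
  rw [show Nat.card {w' : Fin k ⊕ Fin k → Fin m ⊕ Fin m → F | OFr (Quad.plusQ F m) 0 w'} = nFrames F m (2 * k) from
    Nat.card_congr
      { toFun := fun w => ⟨w.1 ∘ e.symm, w.2.reindex _ e.symm.injective⟩
        invFun := fun u => ⟨u.1 ∘ e, u.2.reindex _ e.injective⟩
        left_inv := fun w => Subtype.ext (funext fun i => by simp)
        right_inv := fun u => Subtype.ext (funext fun i => by simp) },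
    nFrames_spec hF (2 * k) d hm, card_matIso_J hF k] at key
  refine Nat.eq_of_mul_eq_mul_right (nFrames_pos (F := F) (show 2 * k ≤ m by omega)) (key.trans ?_)
  ring

end Cfsg.Agent.CharTwoInvol.Orth
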