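import Mathlib
import Cfsg.Agent.CharTwoInvol.OrthPlus
import Cfsg.Agent.Classical.ExcSmall

/-!
Transfer to the matrix groups: `Ω` as the kernel of the Dickson invariant, classes of involutions for plus and
minus type, the exceptional group `O⁻₄(2)`, centralisers in `Ω⁺`.
-/

set_option autoImplicit false
set_option linter.unusedSectionVars false

namespace Cfsg.Agent.CharTwoInvol.Orth

open Module Matrix QuadraticMap
open Cfsg.Agent.Classical

section transfer

variable {F : Type*} [Field F] [CharP F 2] {ι : Type} [Fintype ι] [DecidableEq ι] {Q : QuadraticForm F (ι → F)}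

theorem rank_eq (x : Cfsg.isometryGroup F ⇑Q) :
    (((x : GL ι F) : Matrix ι ι F) - 1).rank = finrank F (LinearMap.range (nil (ρ Q (Quad.oEquiv Q x)))) := by
  rw [Matrix.rank]
  have e : (((x : GL ι F) : Matrix ι ι F) - 1).mulVecLin = nil (ρ Q (Quad.oEquiv Q x)) :=
    LinearMap.ext fun v => by
      rw [Matrix.mulVecLin_apply, Matrix.sub_mulVec, Matrix.one_mulVec, nil_apply]
      funext i
      exact CharTwo.sub_eq_add _ _
  rw [e]

theorem val_sub (x : Cfsg.isometryGroup F ⇑Q) (v : ι → F) :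
    Q ((((x : GL ι F) : Matrix ι ι F) - 1) *ᵥ v) = polarBilin Q v (ρ Q (Quad.oEquiv Q x) v) := by
  rw [← val_nil, Matrix.sub_mulVec, Matrix.one_mulVec, nil_apply]
  congr 1
  funext i
  exact CharTwo.sub_eq_add _ _

theorem sq_eq (x : Cfsg.isometryGroup F ⇑Q) (hx : x ^ 2 = 1) :
    ρ Q (Quad.oEquiv Q x) * ρ Q (Quad.oEquiv Q x) = 1 := by
  rw [← map_mul, ← map_mul, ← pow_two, hx, map_one, map_one]

variable [Finite F]

theorem mem_omega (hQ : (polarBilin Q).Nondegenerate) (hex : Nat.card F ≠ 2 ∨ finrank F (ι → F) ≠ 4)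
    (g : Cfsg.isometryGroup F ⇑Q) : g ∈ Cfsg.Omega F ⇑Q ↔ Quad.dickson hQ hex (Quad.oEquiv Q g) = 1 :=
  (Quad.mem_omega_iff g).trans ((Quad.mem_commutator_chars hQ hex _).trans
    ⟨fun h => h.1, fun h => ⟨h, fun h2 => absurd CharTwo.two_eq_zero h2⟩⟩)

/-- `Ω` is the kernel of the Dickson invariant. -/
noncomputable def omegaEquiv (hQ : (polarBilin Q).Nondegenerate) (hex : Nat.card F ≠ 2 ∨ finrank F (ι → F) ≠ 4) :
    Cfsg.Omega F ⇑Q ≃* (Quad.dickson hQ hex).ker :=
  { ((Quad.oEquiv Q).toEquiv.subtypeEquiv fun g => (mem_omega hQ hex g).trans MonoidHom.mem_ker.symm) with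
    map_mul' := fun a b => Subtype.ext (map_mul (Quad.oEquiv Q) a.1 b.1) }

theorem omega_comm_congr (hQ : (polarBilin Q).Nondegenerate) (hex : Nat.card F ≠ 2 ∨ finrank F (ι → F) ≠ 4)
    (x : Cfsg.isometryGroup F ⇑Q) :
    Nat.card {g : Cfsg.Omega F ⇑Q // (g : Cfsg.isometryGroup F ⇑Q) * x = x * g} =
      Nat.card {g : (Quad.dickson hQ hex).ker // (g : Quad.oG Q) * Quad.oEquiv Q x = Quad.oEquiv Q x * g} := by
  refine Nat.card_congr ((omegaEquiv hQ hex).toEquiv.subtypeEquiv fun g => ?_)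
  change (g.1 * x = x * g.1) ↔ Quad.oEquiv Q g.1 * Quad.oEquiv Q x = Quad.oEquiv Q x * Quad.oEquiv Q g.1
  rw [← map_mul, ← map_mul, (Quad.oEquiv Q).injective.eq_iff]

/-- A subspace with large orthogonal contains an anisotropic vector there. -/
theorem exists_aniso_perp (hQ : (polarBilin Q).Nondegenerate) {n : ℕ}
    (hν : ∀ U : Submodule F (ι → F), (∀ u ∈ U, Q u = 0) → finrank F U ≤ n) {κ : Type*} [Fintype κ]
    {w : κ → ι → F} (hlt : n + Fintype.card κ < finrank F (ι → F)) :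
    ∃ v, (∀ j, polar Q v (w j) = 0) ∧ Q v ≠ 0 := by
  by_contra hc
  push Not at hc
  let P := LinearMap.BilinForm.orthogonal (polarBilin Q) (Submodule.span F (Set.range w))
  have hP := hν P fun u hu => hc u fun j => by
    rw [polar_comm]
    exact hu (w j) (Submodule.subset_span ⟨j, rfl⟩)
  rw [LinearMap.BilinForm.finrank_orthogonal hQ] at hP
  have h1 : finrank F (Submodule.span F (Set.range w)) ≤ Fintype.card κ := finrank_range_le_card w
  omega

end transfer

section plus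

variable {F : Type*} [Field F] [Fintype F] [CharP F 2] {m : ℕ}

theorem plus_hex (h : Fintype.card F ≠ 2 ∨ m ≠ 2) :
    Nat.card F ≠ 2 ∨ finrank F (Fin m ⊕ Fin m → F) ≠ 4 := by
  rw [Nat.card_eq_fintype_card, Quad.finrank_plus]
  omega

theorem plus_O_classes :
    Nat.card {C : ConjClasses (Cfsg.isometryGroup F ⇑(Quad.plusQ F m)) //
      ∃ g, ConjClasses.mk g = C ∧ orderOf g = 2} = m + m / 2 := by
  rw [card_invClasses_congr (Quad.oEquiv (Quad.plusQ F m))]
  exact card_classes_O Quad.nondeg_plusQ m (m / 2) (fun i => exists_one_plus i.2)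
    (fun i => exists_zero_plus (by rw [Fintype.card_sum, Fintype.card_fin]; omega)) one_le_plus zero_le_plus

theorem plus_omega_classes (hm : 1 ≤ m) (h : Fintype.card F ≠ 2 ∨ m ≠ 2) :
    Nat.card {C : ConjClasses (Cfsg.Omega F ⇑(Quad.plusQ F m)) //
      ∃ g, ConjClasses.mk g = C ∧ orderOf g = 2} = 2 * (m / 2) + (if Even m then 1 else 0) := by
  classical
  have hQ : (polarBilin (Quad.plusQ F m)).Nondegenerate := Quad.nondeg_plusQ
  rw [card_invClasses_congr (omegaEquiv hQ (plus_hex h)),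
    card_classes_ker hQ (plus_hex h) (by rw [Quad.finrank_plus]; omega) m (m / 2) (fun i => exists_one_plus i.2)
      (fun i => exists_zero_plus (by rw [Fintype.card_sum, Fintype.card_fin]; omega)) one_le_plus zero_le_plus
      (fun i => 2 * (i.val + 1) = m) ?_ ?_]
  · congr 1
    · ring
    · split_ifs with he
      · obtain ⟨j, hj⟩ := he
        rw [Nat.card_eq_one_iff_unique]
        exact ⟨⟨fun a b => Subtype.ext (Fin.ext (by have := a.2; have := b.2; omega))⟩,
          ⟨⟨⟨j - 1, by omega⟩, by simp only; omega⟩⟩⟩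
      · rw [Nat.card_eq_zero]
        exact Or.inl ⟨fun a => he ⟨a.1.val + 1, by have := a.2; omega⟩⟩
  · intro i hi w hw
    refine exists_aniso_perp hQ plus_index_le ?_
    rw [Quad.finrank_plus, Fintype.card_sum, Fintype.card_fin]
    omega
  · intro i hi w hw g hg
    have hd : finrank F (Submodule.span F (Set.range w)) = m := by
      rw [finrank_span_eq_card hw.frame.indep, Fintype.card_sum, Fintype.card_fin]
      omega
    refine (Quad.even_codim_iff hQ (plus_hex h) Quad.finrank_plus (U := Submodule.span F (Set.range w))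
      (fun u hu => ?_) hd g).1 ?_
    · rw [← range_comb] at hu
      obtain ⟨a, rfl⟩ := hu
      rw [quad_comb hw, mul_zero]
    · rw [hg, inf_idem, hd, Nat.sub_self]
      exact Even.zero

variable {q : ℕ}

/-- Centraliser in `Ω⁺`, non-alternating case. -/
theorem plus_omega_comm_one (hF : Fintype.card F = q) (h : Fintype.card F ≠ 2 ∨ m ≠ 2)
    (x : Cfsg.isometryGroup F ⇑(Quad.plusQ F m)) (hx : x ^ 2 = 1) {s : ℕ}
    (hs : (((x : GL (Fin m ⊕ Fin m) F) : Matrix (Fin m ⊕ Fin m) (Fin m ⊕ Fin m) F) - 1).rank = s)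
    (hna : ∃ v, Quad.plusQ F m ((((x : GL (Fin m ⊕ Fin m) F) :
      Matrix (Fin m ⊕ Fin m) (Fin m ⊕ Fin m) F) - 1) *ᵥ v) ≠ 0) :
    ∃ r d, s = r + 1 ∧ m = r + d + 1 ∧
      Nat.card {g : Cfsg.Omega F ⇑(Quad.plusQ F m) // (g : Cfsg.isometryGroup F ⇑(Quad.plusQ F m)) * x = x * g} =
        q ^ (r * (r - 1) / 2 + r * (2 * d + 1)) * Nat.card (MatIso (1 : Matrix (Fin (r + 1)) (Fin (r + 1)) F)) *
          (q ^ (d ^ 2) * ∏ i ∈ Finset.range d, (q ^ (2 * (i + 1)) - 1)) := by
  classical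
  have hQ : (polarBilin (Quad.plusQ F m)).Nondegenerate := Quad.nondeg_plusQ
  rw [rank_eq] at hs
  obtain ⟨v, hv⟩ := hna
  rw [val_sub] at hv
  obtain ⟨w, hw, hT⟩ := normal_one hQ (Quad.oEquiv _ x) (sq_eq x hx) ⟨v, hv⟩ hs
  obtain ⟨r, rfl⟩ : ∃ r, s = r + 1 := Nat.exists_eq_succ_of_ne_zero fun h0 => by
    subst h0
    rw [hT.apply, invN_apply, comb_apply] at hv
    simp [isAlt_polar (Quad.plusQ F m) v] at hv
  have hle := one_le_plus _ w hw
  refine ⟨r, m - (r + 1), rfl, by omega, ?_⟩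
  obtain ⟨c, hc, hc'⟩ := exists_comm_odd hQ (plus_hex h) (t := Quad.oEquiv _ x) (v := w 0)
    (fix_of_perp hT fun j => hw.frame.orth 0 j) (by rw [hw.val]; exact one_ne_zero)
  refine Nat.eq_of_mul_eq_mul_left two_pos ?_
  rw [omega_comm_congr hQ (plus_hex h), card_ker_comm_half (Quad.dickson hQ (plus_hex h)) hc hc',
    card_comm_one hF (d := m - (r + 1)) (by omega) _ hw hT]
  ring

/-- Centraliser in `Ω⁺`, alternating case. -/
theorem plus_omega_comm_zero (hF : Fintype.card F = q) (h : Fintype.card F ≠ 2 ∨ m ≠ 2)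
    (x : Cfsg.isometryGroup F ⇑(Quad.plusQ F m)) (hx : x ^ 2 = 1) {s : ℕ}
    (hs : (((x : GL (Fin m ⊕ Fin m) F) : Matrix (Fin m ⊕ Fin m) (Fin m ⊕ Fin m) F) - 1).rank = s)
    (halt : ∀ v, Quad.plusQ F m ((((x : GL (Fin m ⊕ Fin m) F) :
      Matrix (Fin m ⊕ Fin m) (Fin m ⊕ Fin m) F) - 1) *ᵥ v) = 0) :
    ∃ k d, s = 2 * k ∧ m = 2 * k + d ∧
      (if d = 0 then 1 else 2) * Nat.card {g : Cfsg.Omega F ⇑(Quad.plusQ F m) //
          (g : Cfsg.isometryGroup F ⇑(Quad.plusQ F m)) * x = x * g} =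
        q ^ (2 * k * (2 * k - 1) / 2 + 2 * (2 * k) * d) *
          (q ^ (k ^ 2) * ∏ i ∈ Finset.range k, (q ^ (2 * (i + 1)) - 1)) * oPlus q d := by
  classical
  have hQ : (polarBilin (Quad.plusQ F m)).Nondegenerate := Quad.nondeg_plusQ
  rw [rank_eq] at hs
  obtain ⟨k, w, hk, hw, hT⟩ := normal_J hQ (Quad.oEquiv _ x) (sq_eq x hx) fun v => by rw [← val_sub]; exact halt v
  have hle := size_le_index plus_index_le hw
  rw [Fintype.card_sum, Fintype.card_fin] at hle
  refine ⟨k, m - 2 * k, hs.symm.trans hk.symm, by omega, ?_⟩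
  rw [omega_comm_congr hQ (plus_hex h), ← card_comm_zero hF (d := m - 2 * k) (by omega) _ hw hT]
  split_ifs with hd
  · rw [one_mul]
    refine Nat.card_congr ((Equiv.subtypeSubtypeEquivSubtypeInter (fun g => g ∈ (Quad.dickson hQ (plus_hex h)).ker)
      (fun g => g * Quad.oEquiv (Quad.plusQ F m) x = Quad.oEquiv (Quad.plusQ F m) x * g)).trans
      (Equiv.subtypeEquivRight fun g => and_iff_right_of_imp fun hg => MonoidHom.mem_ker.2 ?_))
    obtain ⟨A, -, hA⟩ := (comm_iff hQ (ρ_iso g) hw.frame (isUnit_J _) hT).1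
      (by rw [← map_mul, ← map_mul]; exact congrArg (ρ (Quad.plusQ F m)) hg)
    have hd' : finrank F (Submodule.span F (Set.range w)) = m := by
      rw [finrank_span_eq_card hw.frame.indep, Fintype.card_sum, Fintype.card_fin]
      omega
    have hmap : Submodule.map (g.1 : (Fin m ⊕ Fin m → F) →ₗ[F] (Fin m ⊕ Fin m → F))
        (Submodule.span F (Set.range w)) = Submodule.span F (Set.range w) := by
      refine Submodule.eq_of_le_of_finrank_eq ?_ (LinearEquiv.finrank_map_eq _ _)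
      rw [Submodule.map_span, Submodule.span_le]
      rintro _ ⟨_, ⟨j, rfl⟩, rfl⟩
      show ρ (Quad.plusQ F m) g (w j) ∈ _
      rw [hA j]
      exact comb_mem_span _ _
    refine (Quad.even_codim_iff hQ (plus_hex h) Quad.finrank_plus (U := Submodule.span F (Set.range w))
      (fun u hu => ?_) hd' g).1 ?_
    · rw [← range_comb] at hu
      obtain ⟨a, rfl⟩ := hu
      rw [quad_comb hw, mul_zero]
    · rw [hmap, inf_idem, hd', Nat.sub_self]
      exact Even.zero
  · obtain ⟨v, hv, hQv⟩ := exists_aniso_perp hQ plus_index_le (w := w) (by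
      rw [Quad.finrank_plus, Fintype.card_sum, Fintype.card_fin]; omega)
    obtain ⟨c, hc, hc'⟩ := exists_comm_odd hQ (plus_hex h) (t := Quad.oEquiv _ x) (fix_of_perp hT hv) hQv
    exact card_ker_comm_half (Quad.dickson hQ (plus_hex h)) hc hc'

end plus

section minus

variable {F : Type*} [Field F] [Fintype F] [CharP F 2] {a b : F}

/-- The minus form. -/
noncomputable def minusQ (k : ℕ) (a b : F) : QuadraticForm F ((Fin k ⊕ Fin k) ⊕ Fin 2 → F) :=
  (Quad.hyp (Quad.binForm a b) k).comp (Quad.minusCoord k).toLinearMap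

theorem coe_minusQ (k : ℕ) : ⇑(minusQ k a b) = Cfsg.quadFormMinus k F a b :=
  funext fun x => Quad.minusCoord_map a b k x

variable (hab : ∀ z₁ z₂ : F, z₁ ^ 2 + a * z₁ * z₂ + b * z₂ ^ 2 = 0 → z₁ = 0 ∧ z₂ = 0) {k : ℕ}

include hab

theorem nondeg_minusQ : (polarBilin (minusQ k a b)).Nondegenerate :=
  Quad.Iso.nondeg (Quad.Iso.symm ⟨Quad.minusCoord k, fun x => by simp [minusQ]⟩)
    (Quad.nondeg_hyp (Quad.nondeg_binForm hab) k)

omit hab in
theorem finrank_minus : finrank F ((Fin k ⊕ Fin k) ⊕ Fin 2 → F) = 2 * k + 2 := by simp; omega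

theorem minus_index_le (U : Submodule F ((Fin k ⊕ Fin k) ⊕ Fin 2 → F)) (hU : ∀ u ∈ U, minusQ k a b u = 0) :
    finrank F U ≤ k :=
  (Quad.minus_index hab k).2 U fun u hu => (congrFun (coe_minusQ k) u).symm.trans (hU u hu)

omit hab in
theorem exists_zero_minus {κ : Type*} [Fintype κ] (hk : Fintype.card κ ≤ k) :
    ∃ w : κ → (Fin k ⊕ Fin k) ⊕ Fin 2 → F, OFr (minusQ k a b) 0 w := by
  classical
  let f : κ → (Fin k ⊕ Fin k) ⊕ Fin 2 := fun i => .inl (.inl (Fin.castLE hk (Fintype.equivFin κ i)))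
  have hf : Function.Injective f := fun x y h => by simpa [f] using h
  have hq : ∀ u : (Fin k ⊕ Fin k) ⊕ Fin 2 → F, (∀ i, u (.inl (.inr i)) = 0) → u (.inr 0) = 0 → u (.inr 1) = 0 →
      minusQ k a b u = 0 := fun u h1 h2 h3 => by
    rw [coe_minusQ]
    simp [Cfsg.quadFormMinus, h1, h2, h3]
  refine ⟨fun i => Pi.single (f i) 1, ⟨(Pi.linearIndependent_single_one ((Fin k ⊕ Fin k) ⊕ Fin 2) F).comp f hf,
    fun i j => ?_⟩, fun i => ?_⟩
  · rw [polarBilin_apply_apply, polar, hq, hq, hq] <;> simp [f]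
  · exact hq _ (fun i => by simp [f]) (by simp [f]) (by simp [f])

omit hab in
theorem exists_one_minus {r : ℕ} (hr : r ≤ k) :
    ∃ w : Fin (r + 1) → (Fin k ⊕ Fin k) ⊕ Fin 2 → F, OFr (minusQ k a b) 1 w := by
  have hq : ∀ u : (Fin k ⊕ Fin k) ⊕ Fin 2 → F, (∀ i, u (.inl (.inr i)) = 0) →
      minusQ k a b u = u (.inr 0) ^ 2 + a * u (.inr 0) * u (.inr 1) + b * u (.inr 1) ^ 2 := fun u h1 => by
    rw [coe_minusQ]
    simp [Cfsg.quadFormMinus, h1]
  have hu : OFr (minusQ k a b) 0 (fun i : Fin r => Pi.single (.inl (.inl (Fin.castLE hr i))) (1 : F)) := by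
    refine ⟨⟨(Pi.linearIndependent_single_one ((Fin k ⊕ Fin k) ⊕ Fin 2) F).comp _ fun x y h => by simpa using h,
      fun i j => ?_⟩, fun i => ?_⟩
    · rw [polarBilin_apply_apply, polar, hq, hq, hq] <;> simp
    · rw [hq] <;> simp
  refine ⟨_, ofr_snoc hu (z := Pi.single (.inr 0) 1) (fun i => ?_) ?_⟩
  · rw [polar, hq, hq, hq] <;> simp
  · rw [hq] <;> simp

theorem one_le_minus (s : ℕ) (w : Fin s → (Fin k ⊕ Fin k) ⊕ Fin 2 → F) (hw : OFr (minusQ k a b) 1 w) :
    s ≤ k + 1 := by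
  have := size_le (nondeg_minusQ hab) hw
  rw [finrank_minus, Fintype.card_fin] at this
  omega

theorem zero_le_minus (j : ℕ) (w : Fin j ⊕ Fin j → (Fin k ⊕ Fin k) ⊕ Fin 2 → F) (hw : OFr (minusQ k a b) 0 w) :
    j ≤ k / 2 := by
  have := size_le_index (minus_index_le hab) hw
  rw [Fintype.card_sum, Fintype.card_fin] at this
  omega

theorem minus_O_classes :
    Nat.card {C : ConjClasses (Cfsg.isometryGroup F ⇑(minusQ k a b)) //
      ∃ g, ConjClasses.mk g = C ∧ orderOf g = 2} = (k + 1) + k / 2 := by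
  rw [card_invClasses_congr (Quad.oEquiv (minusQ k a b))]
  exact card_classes_O (nondeg_minusQ hab) (k + 1) (k / 2) (fun i => exists_one_minus (by omega))
    (fun i => exists_zero_minus (by rw [Fintype.card_sum, Fintype.card_fin]; omega))
    (one_le_minus hab) (zero_le_minus hab)

theorem minus_omega_classes_generic (hex : Nat.card F ≠ 2 ∨ k ≠ 1) :
    Nat.card {C : ConjClasses (Cfsg.Omega F ⇑(minusQ k a b)) //
      ∃ g, ConjClasses.mk g = C ∧ orderOf g = 2} = (k + 1) / 2 + k / 2 := by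
  classical
  have hQ := nondeg_minusQ (k := k) hab
  have hex' : Nat.card F ≠ 2 ∨ finrank F ((Fin k ⊕ Fin k) ⊕ Fin 2 → F) ≠ 4 := by
    rw [finrank_minus]; omega
  rw [card_invClasses_congr (omegaEquiv hQ hex'),
    card_classes_ker hQ hex' (by rw [finrank_minus]; omega) (k + 1) (k / 2) (fun i => exists_one_minus (by omega))
      (fun i => exists_zero_minus (by rw [Fintype.card_sum, Fintype.card_fin]; omega))
      (one_le_minus hab) (zero_le_minus hab) (fun _ => False) ?_ (fun _ h => h.elim)]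
  · simp
  · intro i _ w hw
    refine exists_aniso_perp hQ (minus_index_le hab) ?_
    rw [finrank_minus, Fintype.card_sum, Fintype.card_fin]
    omega

end minus

section four

theorem card_classes_alt_five :
    Nat.card {C : ConjClasses (Equiv.Perm.sign (α := Fin 5)).ker // ∃ g, ConjClasses.mk g = C ∧ orderOf g = 2} =
      1 := by
  have h0 : orderOf (Equiv.swap 0 4 * Equiv.swap 1 3 : Equiv.Perm (Fin 5)) = 2 :=
    orderOf_eq_prime (by decide) (by decide)
  rw [card_invClasses_ker (T := Unit) Equiv.Perm.sign (fun _ => Equiv.swap 0 4 * Equiv.swap 1 3) (Equiv.swap 0 4)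
    (Equiv.Perm.sign_swap (by decide)) (fun _ => h0) (fun _ => by decide) (fun g hg hg1 => ⟨(), ?_⟩)
    (fun _ _ _ => rfl) (fun _ => False) (fun _ _ => ⟨Equiv.swap 0 4, by decide, Equiv.Perm.sign_swap (by decide)⟩)
    (fun _ h => h.elim)]
  · simp
  · refine (alternatingGroup.isConj_swap_mul_swap_of_cycleType_two (Equiv.Perm.mem_alternatingGroup.2 hg1)
      (fun h => by rw [h, orderOf_one] at hg; omega) fun n hn => ?_)
    have h1 : n ∣ 2 := hg ▸ Equiv.Perm.dvd_of_mem_cycleType hn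
    exact le_antisymm (Nat.le_of_dvd two_pos h1) (Equiv.Perm.two_le_of_mem_cycleType hn)

theorem commutator_perm_five : commutator (Equiv.Perm (Fin 5)) = (Equiv.Perm.sign (α := Fin 5)).ker := by
  refine le_antisymm (Abelianization.commutator_subset_ker _) ?_
  show alternatingGroup (Fin 5) ≤ _
  rw [← commutator_alternatingGroup_eq_self (α := Fin 5) (by simp), commutator_def]
  exact Subgroup.commutator_mono le_top le_top

theorem commutator_classes_congr {G H : Type*} [Group G] [Group H] (e : G ≃* H) (K : Subgroup G)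
    (hK : K = commutator G) :
    Nat.card {C : ConjClasses K // ∃ g, ConjClasses.mk g = C ∧ orderOf g = 2} =
      Nat.card {C : ConjClasses (commutator H) // ∃ g, ConjClasses.mk g = C ∧ orderOf g = 2} := by
  refine card_invClasses_congr ((e.subgroupMap K).trans (MulEquiv.subgroupCongr ?_))
  rw [hK, commutator_def, commutator_def, Subgroup.map_commutator,
    Subgroup.map_top_of_surjective _ e.surjective]

theorem minus_omega_classes_four {F : Type*} [Field F] [Fintype F] [CharP F 2] (hF : Fintype.card F = 2) (a b : F)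
    (hab : ∀ z₁ z₂ : F, z₁ ^ 2 + a * z₁ * z₂ + b * z₂ ^ 2 = 0 → z₁ = 0 ∧ z₂ = 0) :
    Nat.card {C : ConjClasses (Cfsg.Omega F (Cfsg.quadFormMinus 1 F a b)) //
      ∃ g, ConjClasses.mk g = C ∧ orderOf g = 2} = 1 := by
  classical
  obtain ⟨rfl, rfl⟩ : a = 1 ∧ b = 1 := by
    rcases Symm2.two_cases hF a with rfl | rfl <;> rcases Symm2.two_cases hF b with rfl | rfl
    · exact absurd (hab 0 1 (by simp)).2 one_ne_zero
    · exact absurd (hab 1 1 (by simp [Symm2.add_self hF])).2 one_ne_zero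
    · exact absurd (hab 0 1 (by simp)).2 one_ne_zero
    · exact ⟨rfl, rfl⟩
  obtain ⟨e⟩ := Symm2.equiv_five hF
  rw [commutator_classes_congr e _ rfl, card_invClasses_congr (MulEquiv.subgroupCongr commutator_perm_five)]
  exact card_classes_alt_five

end four

/-- Classes of involutions of `Ω⁻`. -/
theorem minus_omega_classes {F : Type*} [Field F] [Fintype F] [CharP F 2] (k : ℕ) (a b : F)
    (hab : ∀ z₁ z₂ : F, z₁ ^ 2 + a * z₁ * z₂ + b * z₂ ^ 2 = 0 → z₁ = 0 ∧ z₂ = 0) :
    Nat.card {C : ConjClasses (Cfsg.Omega F (Cfsg.quadFormMinus k F a b)) //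
      ∃ g, ConjClasses.mk g = C ∧ orderOf g = 2} = (k + 1) / 2 + k / 2 := by
  by_cases h : Nat.card F ≠ 2 ∨ k ≠ 1
  · rw [← coe_minusQ k]
    exact minus_omega_classes_generic hab h
  · push Not at h
    obtain ⟨hF, rfl⟩ := h
    rw [Nat.card_eq_fintype_card] at hF
    exact minus_omega_classes_four hF a b hab

end Cfsg.Agent.CharTwoInvol.Orth
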